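import Cfsg.Agent.OddHalf.D4.Spor.Baby.Main_m3
import Cfsg.Agent.OddHalf.D4.Spor.LatFour_m3
import Cfsg.Agent.KFacts.Baby.RowB_m3
import Cfsg.Agent.H547.PP.FarBaby
import Cfsg.Agent.CTwoTab.Bal
import Cfsg.Agent.CTwoTab.MonsterOf
import Cfsg.Agent.ResEven.Congr_m3
import Cfsg.Agent.FastGrp
import Cfsg.Agent.Prune
set_option linter.all false

section
prune_inst 0x7f00000000000000000000000000000000000000000000000000000000000000000000000000000000000000000000000000000000000000000000000000000000000000000000000000000000000000003fffffffffffffffffffffffffffbeffbdffffffff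

-- part: CTwoTab/B
section
set_option linter.all false
open scoped Cfsg.Agent.FastGrp

-- merged: Cfsg.Agent.OddHalf.D4.Spor.Baby.Model
section

/-!
# D4, sporadic components: the sheet of the model of the Baby Monster, without hypotheses (helper667)
-/

set_option autoImplicit false

namespace Cfsg.Agent.OddHalf.D4.Spor.Baby.Model

open Cfsg Cfsg.Agent.BabyM Cfsg.Agent.BabyM.Model Cfsg.Agent.BabyU.ClosModel Cfsg.Agent.BabyU.ClosLane
open Cfsg.Agent.KFacts.AutLarge Cfsg.Agent.KFacts.Baby Cfsg.Agent.KFacts.Baby.Fix Cfsg.Agent.BabyM.Conc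
open Cfsg.Agent.BabyM.CoTwoMod Cfsg.Agent.BabyM.Co2GenStd

theorem noTriple : BabyHyp.NoTriple l₀ :=
  fun g h => LatFour.noTriple GroupInst.dt_l₀ g h

/-- **The sheet of the model.** -/
theorem sheet_model : Spor.Sheet Inst.M.G :=
  Baby.sheet_model KFacts.CoTwo.InnerB.inner noTriple

/-- **The sheet of a group isomorphic to the model.** -/
theorem sheet_of_equiv {X : Type*} [Group X] (e : Inst.M.G ≃* X) : Spor.Sheet X :=
  Sheet.of_equiv e sheet_model

end Cfsg.Agent.OddHalf.D4.Spor.Baby.Model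

end

-- merged: Cfsg.Agent.OddHalf.D4.Spor.Baby.Final
section

/-!
# D4, sporadic components: the sheet of the Baby Monster, without hypotheses (helper667)
-/

set_option autoImplicit false

namespace Cfsg.Agent.OddHalf.D4.Spor.Baby.Final

/-- **The sheet of every group isomorphic to the Baby Monster.** -/
theorem sheet {X : Type*} [Group X] (h : Cfsg.Spor.IsoB X) : Cfsg.Agent.OddHalf.D4.Spor.Sheet X := by
  obtain ⟨e⟩ := Cfsg.Agent.KFacts.Baby.RowB.exists_iso h
  exact Cfsg.Agent.OddHalf.D4.Spor.Baby.Model.sheet_of_equiv e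

end Cfsg.Agent.OddHalf.D4.Spor.Baby.Final

end

-- merged: Cfsg.Agent.CTwoTab.B
section

/-!
# The row of the Baby Monster of the table "components of involution centralizers are `C₂`-groups" (helper30)

`compC2` : `CompC2 Spor.BabyMonster`, from `S0000` and the table "known simple groups in which the centralizers of the
involutions are of characteristic 2 are on the `C₂` list", both as hypotheses; `noSpec`, `rank` : no special component,
2-rank at least 3; `restricted_b` : restricted even type.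
-/

set_option autoImplicit false
set_option maxRecDepth 100000

open Subgroup

namespace Cfsg.Agent.CTwoTab.B

open Cfsg Cfsg.Agent.MonsterX Cfsg.Agent.MonsterX.Space Cfsg.Agent.MonsterX.Conc Cfsg.Agent.MonsterX.Model
open Cfsg.Agent.MonsterX.InstData Cfsg.Agent.MonsterX.MainPack Cfsg.Agent.MonsterU
open Cfsg.Agent.MonsterP Cfsg.Agent.MonsterP.NodeData Cfsg.Agent.MonsterP.NodesConj Cfsg.Agent.CTwoTab.BInst

/-- `O(C(t)) = 1` -/
theorem bal (t : Spor.BabyMonster) (ht : orderOf t = 2) : centralizerPPrimeCore 2 t = ⊥ := by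
  have := finite_B
  have htt : t * t = 1 := by rw [← pow_two, ← ht, pow_orderOf_eq_one]
  have ht1 : t ≠ 1 := by
    rintro rfl
    rw [orderOf_one] at ht
    omega
  exact bal_of ((OddHalf.D4.Spor.Baby.Final.sheet (X := Spor.BabyMonster) ⟨MulEquiv.refl _⟩).bal t htt ht1)

theorem both : (CpAut.AllKnown.{0} → CpAut.TwoAbs.Table.{0} → ∀ u : Spor.BabyMonster, orderOf u = 2 →
      CTwoTab.At Spor.BabyMonster u) ∧
    ∀ u : Spor.BabyMonster, orderOf u = 2 → ∀ K : Subgroup Spor.BabyMonster,
      IsComponentOf K (centralizer ({u} : Set Spor.BabyMonster)) → SevenCases.NoSpec ↥K :=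
  BabyComp.Par.both all KDone.lnk KDone.lft
    (TauInst.tauHyp (Final.cent InstanceFinal.mOrbit Instance.mTrans)) (NodesGrp.prel H) (NodesNe.ne H)
    conj_ten bal

/-- **The row of the Baby Monster.** -/
theorem compC2 (hS : CpAut.AllKnown.{0}) (hTab : CpAut.TwoAbs.Table.{0}) : CompC2 Spor.BabyMonster :=
  ⟨fun t ht => (both.1 hS hTab t ht).bal, fun t ht => (both.1 hS hTab t ht).comp⟩

/-- No component is of type `L₂(q)`, `q ∈ FM9`, or `L₃(4)`. -/
theorem noSpec (x : Spor.BabyMonster) (K : Subgroup Spor.BabyMonster) (hx : orderOf x = 2)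
    (hK : IsComponentOf K (centralizer ({x} : Set Spor.BabyMonster))) : SevenCases.NoSpec ↥K :=
  both.2 x hx K hK

/-- `m₂(B) ≥ 3` -/
theorem rank : PRankAtLeast 2 3 Spor.BabyMonster := by
  have := BabyU.ClosLane.A.finite_G
  refine ResEven.Congr.prankAtLeast_of BM.KHAll.iso.symm
    (MonsterOf.rank_three_of_large (KFacts.Baby.Inst.large BabyU.ClosLane.A) ?_)
  rw [KFacts.Baby.CaseM.card_PP]
  norm_num

/-- **Restricted even type.** -/
theorem restricted_b (hS : CpAut.AllKnown.{0}) (hTab : CpAut.TwoAbs.Table.{0}) {G : Type*} [Group G] [Finite G]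
    (h : Spor.IsoB G) : IsOfRestrictedEvenType G := by
  have := finite_B
  obtain ⟨e⟩ := h
  exact (ResEven.Congr.restricted_congr e.symm).1 (SevenCases.res_of_noSpec (compC2 hS hTab) rank
    (fun x K hx hK => noSpec x K hx hK))

end Cfsg.Agent.CTwoTab.B

end
end

-- part: H340/BabyTe
section
set_option linter.all false
open scoped Cfsg.Agent.FastGrp
/-!
# The Baby Monster: the component `2·²E₆(2)` of the centralizer of a transposition has even centre (helper340)

* `mem_of_words` : `N i`, `i < 10`, elements of `C(t)` satisfying the Coxeter relations of `Y₃₃₃`, with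
  `ev N W321 ^ 9 = t`, `ev N W231 ^ 9 = 1`; a subgroup `K` which contains `N i` or `N i * t` for every `i` contains `t`;
* `comp` : a component `K` of the centralizer of an involution of the Baby Monster either has `|K/Z(K)| = |²E₆(2)|` and
  `|Z(K)|` even, or has order less than `|²E₆(2)|`.
-/

set_option autoImplicit false

universe u v

namespace Cfsg.Agent.H340.BabyTe

open Subgroup Cfsg Cfsg.Agent.TwoESix.Cox10

section words

variable {X : Type*} [Group X] {t : X} {N : Fin 10 → X}

theorem ev_comm (hN : ∀ i, N i * t = t * N i) (w : List (Fin 10)) : ev N w * t = t * ev N w := by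
  induction w with
  | nil => rw [ev_nil, one_mul, mul_one]
  | cons i w ih => rw [ev_cons, mul_assoc, ih, ← mul_assoc, hN, mul_assoc]

theorem ev_mul (hN : ∀ i, N i * t = t * N i) (w : List (Fin 10)) :
    ev (fun i => N i * t) w = ev N w * t ^ w.length := by
  induction w with
  | nil => rw [ev_nil, ev_nil, List.length_nil, pow_zero, one_mul]
  | cons i w ih =>
    rw [ev_cons, ev_cons, ih, List.length_cons, pow_succ']
    calc N i * t * (ev N w * t ^ w.length) = N i * (t * ev N w) * t ^ w.length := by group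
      _ = N i * (ev N w * t) * t ^ w.length := by rw [ev_comm hN]
      _ = N i * ev N w * (t * t ^ w.length) := by group

theorem ev_mem {K : Subgroup X} (hN : ∀ i, N i ∈ K) (w : List (Fin 10)) : ev N w ∈ K := by
  induction w with
  | nil => rw [ev_nil]; exact one_mem _
  | cons i w ih => rw [ev_cons]; exact K.mul_mem (hN i) ih

/-- **The double cover does not split.** -/
theorem mem_of_words (htt : t * t = 1) (hc : ∀ i, N i * t = t * N i) (hN : M10.IsLiftable N)
    (h1 : ev N W321 ^ 9 = t) (h2 : ev N W231 ^ 9 = 1) {K : Subgroup X} (hK : ∀ i, N i ∈ K ∨ N i * t ∈ K) :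
    t ∈ K := by
  by_contra ht
  -- adjacent nodes
  have hadj : ∀ i j, lab i j = 3 → N i ∈ K → N j ∈ K := by
    intro i j hij hi
    by_contra hj
    have hj' := (hK j).resolve_left hj
    apply ht
    have h3 : (N i * N j) ^ 3 = 1 := by
      have := hN i j
      rwa [M10_apply, hij] at this
    have h4 : N i * (N j * t) ∈ K := K.mul_mem hi hj'
    have h5 : (N i * (N j * t)) ^ 3 = t := by
      have hcomm : Commute (N i * N j) t := by
        change N i * N j * t = t * (N i * N j)
        rw [mul_assoc, hc, ← mul_assoc, hc, mul_assoc]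
      rw [← mul_assoc, hcomm.mul_pow, h3, one_mul, pow_succ, pow_two, htt, one_mul]
    rw [← h5]
    exact K.pow_mem h4 3
  have hp : ∀ i, (N 3 ∈ K ↔ N i ∈ K) := by
    have e : ∀ i j, lab i j = 3 → (N i ∈ K ↔ N j ∈ K) := fun i j hij =>
      ⟨hadj i j hij, hadj j i (by rw [lab_symm]; exact hij)⟩
    have e32 := e 3 2 (by decide)
    have e21 := e 2 1 (by decide)
    have e10 := e 1 0 (by decide)
    have e34 := e 3 4 (by decide)
    have e45 := e 4 5 (by decide)
    have e56 := e 5 6 (by decide)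
    have e37 := e 3 7 (by decide)
    have e78 := e 7 8 (by decide)
    have e89 := e 8 9 (by decide)
    intro i
    fin_cases i
    · exact e32.trans (e21.trans e10)
    · exact e32.trans e21
    · exact e32
    · exact Iff.rfl
    · exact e34
    · exact e34.trans e45
    · exact e34.trans (e45.trans e56)
    · exact e37
    · exact e37.trans e78
    · exact e37.trans (e78.trans e89)
  by_cases h3 : N 3 ∈ K
  · apply ht
    rw [← h1]
    exact K.pow_mem (ev_mem (fun i => (hp i).1 h3) _) 9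
  · have h4 : ∀ i, N i * t ∈ K := fun i => (hK i).resolve_left fun h => h3 ((hp i).2 h)
    apply ht
    have h5 := K.pow_mem (ev_mem h4 W231) 9
    rw [ev_mul hc] at h5
    have h6 : t ^ W231.length = t := by
      change t ^ 7 = t
      rw [show 7 = 2 * 3 + 1 by norm_num, pow_succ, pow_mul, pow_two, htt, one_pow, one_mul]
    have hcomm : Commute (ev N W231) t := ev_comm hc _
    rw [h6, hcomm.mul_pow, h2, one_mul] at h5
    have h7 : t ^ 9 = t := by
      rw [show 9 = 2 * 4 + 1 by norm_num, pow_succ, pow_mul, pow_two, htt, one_pow, one_mul]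
    rwa [h7] at h5

end words

open Cfsg.Agent.CTwoTab Cfsg.Agent.R01.Lifts Cfsg.Agent.MonsterN Cfsg.Agent.MonsterN.Lit
open Cfsg.Agent.SignalizersComponents Cfsg.Agent.BabyComp Cfsg.Agent.BabyComp.Main

/-- The alternatives for a component `K`. -/
def Pr (K : Type u) [Group K] : Prop :=
  (Nat.card (K ⧸ center K) = 76532479683774853939200 ∧ 2 ∣ Nat.card (center K)) ∨
    Nat.card K < 76532479683774853939200

theorem Pr.congr {K : Type u} {L : Type v} [Group K] [Group L] (e : K ≃* L) (h : Pr K) : Pr L := by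
  rcases h with ⟨h1, h2⟩ | h1
  · refine Or.inl ⟨?_, ?_⟩
    · rw [← Nat.card_congr (quoEquiv e).toEquiv]
      exact h1
    · rw [← Nat.card_congr (Subgroup.centerCongr e).toEquiv]
      exact h2
  · right
    rw [← Nat.card_congr e.toEquiv]
    exact h1

section sec

variable {B X E : Type*} [Group B] [Group X] [Group E] [Finite B] [Finite X] [IsSimpleGroup E] {q : B →* X} {τ : B}
  {R : Set E}
variable {y : ℕ → B} {h : Pre y} {π : KK y →* E}

/-- a component of `C(t)` is mapped onto `E` by `σ` -/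
theorem exists_pre {t : X} {X₀ : Subgroup X} {σ : ↥X₀ →* E} (H : Sec.Data t σ) {K : Subgroup X}
    (hK : IsComponentOf K (centralizer ({t} : Set X))) : ∀ m : ↥X₀, (m : X) ∈ K ∨ (m : X) * t ∈ K := by
  have hperf := isPerfect_of_comp hK
  have hKX : K ≤ X₀ := H.perf K hK.1 hperf
  have hXC : X₀ ≤ centralizer ({t} : Set X) := fun m hm => mem_centralizer_singleton_iff.2 (H.comm m hm)
  have hK' := Abs.comp_mono hK hKX hXC
  let f : ↥K →* E := σ.comp (Subgroup.inclusion hKX)
  have hker : ∀ k : ↥K, f k = 1 ↔ (k : X) = 1 ∨ (k : X) = t := fun k => H.ker (Subgroup.inclusion hKX k)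
  have hcen : f.ker ≤ center ↥K := by
    intro z hz
    rw [mem_center_iff]
    intro g
    apply Subtype.ext
    show (g : X) * z = z * g
    rcases (hker z).1 hz with h | h
    · rw [h, mul_one, one_mul]
    · rw [h, H.comm _ (hKX g.2)]
  have hnab := Components.quasisimple_not_isMulCommutative (Abs.quasisimple_of_comp hK)
  have h1 : (K.subgroupOf X₀).map σ = ⊤ := by
    rcases ComponentImage.map_eq_bot_or_isComponent H.surj hK'.2 with h | h
    · exfalso
      apply hnab
      refine ⟨⟨fun a b => ?_⟩⟩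
      have h1 : a ∈ f.ker := by
        have h2 : σ ⟨a, hKX a.2⟩ ∈ (K.subgroupOf X₀).map σ := ⟨⟨a, hKX a.2⟩, a.2, rfl⟩
        rw [h, mem_bot] at h2
        exact h2
      exact ((mem_center_iff.1 (hcen h1)) b).symm
    · rcases h.1.eq_bot_or_top_of_isSimpleGroup inferInstance with h2 | h2
      · exact absurd h2 (Components.component_ne_bot h)
      · exact h2
  intro m
  have h2 : σ m ∈ (K.subgroupOf X₀).map σ := by rw [h1]; exact mem_top _
  obtain ⟨k, hk, hkm⟩ := h2
  have hkK : (k : X) ∈ K := hk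
  rcases H.map_eq.1 hkm with h3 | h3
  · left; rw [← h3]; exact hkK
  · right; rw [← h3]; exact hkK

omit [Finite B] in
/-- **`t` lies in the component.** -/
theorem mem_comp (hq : Ext q τ) (h10 : y 10 = τ) {σ : ↥((KK y).map q) →* E} (H : Sec.Data (q (y 5)) σ)
    (h : Pre y) {K : Subgroup X} (hK : IsComponentOf K (centralizer ({q (y 5)} : Set X))) : q (y 5) ∈ K := by
  have hmem : ∀ i, q (y (nl i)) ∈ (KK y).map q := fun i => ⟨_, h.nd_mem i, rfl⟩
  refine mem_of_words (N := fun i => q (y (nl i))) H.t_sq (fun i => H.comm _ (hmem i)) ?_ ?_ ?_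
    (fun i => exists_pre H hK ⟨_, hmem i⟩)
  · intro i j
    have h1 := congrArg q (h.liftable i j)
    rwa [map_pow, map_mul, map_one] at h1
  · have h1 := congrArg q h.sig0
    rw [← h1]
    change _ = q (ev (fun i => y (nl i)) W321 ^ 9)
    rw [map_pow, ev_map]
  · have h1 := congrArg q h.sig1
    rw [h10, hq.mapz] at h1
    rw [← h1]
    change _ = q (ev (fun i => y (nl i)) W231 ^ 9)
    rw [map_pow, ev_map]

end sec

section all

open Cfsg.Agent.CpAut Cfsg.Agent.CpAut.TwoAbs

variable {B : Type*} {X : Type u} {E : Type v} [Group B] [Group X] [Group E] [Finite B] [Finite X] [Finite E]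
  {q : B →* X} {τ : B} {R : Set E}
variable {y : ℕ → B} {h : Pre y} {π : KK y →* E} {f₁ f₂ f₃ f₄ : B}

theorem comp_main [IsSimpleGroup E] {Γ : Type*} [Group Γ] [Finite Γ] (hq : Ext q τ) (h10 : y 10 = τ) (D : KD h R π)
    (Fc : FusionType.Facts τ f₁ f₂ f₃ f₄) {θ : B →* Γ} {z : Γ}
    (hθ : Function.Injective θ) (hr : ∀ x : Γ, x * θ τ = θ τ * x → ∃ b, θ b = x)
    (hcz : IsConj z (θ (τ * (f₁ * f₂)))) (hcd : IsConj z (θ (f₁ * f₂ * f₃)))
    {Q : Subgroup Γ} (hL : Cfsg.Agent.Co2Type.Quad.Large Q z)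
    (hc5 : IsConj f₁ (y 5)) (big : KEq.Big B τ (y 5))
    {F : Type*} [Field F] [Fintype F] {hF : Fintype.card F = 2 ^ 2}
    (hR : Cfsg.Agent.BabyU.RootCfg.RootFacts hF R) (hX : Cfsg.Agent.BabyU.Key.Extra hF R)
    (Rt : Cfsg.Agent.BabyU.Lab.Roots E R) (hna : ∃ a b : E, a * b ≠ b * a)
    (hcard : Nat.card E = 76532479683774853939200)
    (hE : ∀ v : E, orderOf v = 2 → IsOfCharacteristicTwo ↥(centralizer ({v} : Set E)))
    {M₁ : Subgroup X} (Bs : Base (q (y 5)) M₁)
    (bal : ∀ u : X, orderOf u = 2 → centralizerPPrimeCore 2 u = ⊥) (u : X) (hu : orderOf u = 2)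
    (K : Subgroup X) (hK : IsComponentOf K (centralizer ({u} : Set X))) : Pr ↥K := by
  obtain ⟨σ, hσ⟩ := exists_sigma hq h10 D
  have H := data hq h10 D big hσ
  refine NoSpec.comp_all hq h10 D Fc hθ hr hcz hcd hL hc5 big hR hX Rt Bs (Pr := fun K _ => Pr K)
    (fun e h => Pr.congr e h) ?_ ?_ u hu K hK
  · intro K hK
    have ht := mem_comp hq h10 H h hK
    obtain ⟨f, hf, hk, hcen⟩ := TwoA.exists_hom H hK
    have e := quoCenterEquiv hf (simple_center_eq_bot hna) hcen
    left
    refine ⟨by rw [Nat.card_congr e.toEquiv, hcard], ?_⟩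
    have hKC := hK.1
    have h1 : (⟨q (y 5), ht⟩ : ↥K) ∈ center ↥K := by
      rw [mem_center_iff]
      intro g
      apply Subtype.ext
      exact mem_centralizer_singleton_iff.1 (hKC g.2)
    have h2 : orderOf (⟨⟨q (y 5), ht⟩, h1⟩ : ↥(center ↥K)) = 2 := by
      rw [← Subgroup.orderOf_coe, ← Subgroup.orderOf_coe]
      exact orderOf_eq_prime (by rw [pow_two]; exact H.t_sq) H.t_ne
    rw [← h2]
    exact orderOf_dvd_natCard _
  · intro u d huu hu1 hd hc hud K hK
    have hu2 : orderOf u = 2 := orderOf_eq_prime (by rw [pow_two, huu]) hu1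
    obtain ⟨X₀, σ', H', x, L, hx2, -, -, -, -, -, -, ⟨e⟩⟩ :=
      CaseTwo.main hE (Bs.trans H.t_sq H.t_ne) (by
        intro d hd
        obtain ⟨g, rfl⟩ := isConj_iff.1 hd
        have h1 := H.comap (MulAut.conj g⁻¹)
        have h2 : (MulAut.conj g⁻¹).symm (q (y 5)) = g * q (y 5) * g⁻¹ := by
          rw [MulEquiv.symm_apply_eq, MulAut.conj_apply]
          group
        rw [h2] at h1
        exact ⟨_, _, h1⟩) huu hu1 hd hc hud (bal u hu2) hK
    right
    rw [Nat.card_congr e.toEquiv, ← hcard]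
    refine lt_of_le_of_lt (Subgroup.card_le_card_group L) ?_
    refine lt_of_le_of_ne (Subgroup.card_le_card_group (fixedSubgroup x)) ?_
    intro h1
    have h2 := Subgroup.eq_top_of_card_eq _ h1
    have h3 : x = 1 := by
      ext g
      have h4 : g ∈ fixedSubgroup x := by rw [h2]; exact mem_top g
      exact h4
    rw [h3, orderOf_one] at hx2
    omega

end all

section par

open Cfsg.Lie Cfsg.Agent.Bimonster Cfsg.Agent.BabyU Cfsg.Agent.TwoESix.Cover
open Cfsg.Agent.MonsterX.KSide Cfsg.Agent.MonsterX.KLift Cfsg.Agent.MonsterX.KModel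
open Cfsg.Agent.MonsterX.Model Cfsg.Agent.MonsterX.MainPack Cfsg.Agent.MonsterX.MainSimple
open Cfsg.Agent.MonsterX.MainBasic Cfsg.Agent.MonsterU.Assembly
open Cfsg.Agent.MonsterN.LitInst Cfsg.Agent.MonsterU.Lam2 Cfsg.Agent.MonsterU.TwoCls

variable {V P W : Type} [AddCommGroup V] [Module ℚ V] [Group P] [AddCommGroup W] [Module ℚ W]
  {D : MData V} {M : KS ↥D.G V P W} {x₀ : P} {θ : leechLattice → P} {K₀ : Type} [Group K₀]

/-- The components in the presented group, from a model of the Monster (the proof is that of `BabyComp.Par.both`). -/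
theorem of_model (A : All D K₀) (H : Link D M x₀) (L : Lift M θ) {τ : D.G} {y' : P}
    (T : Cfsg.Agent.MonsterU.InvTwo.TauHyp M θ ⊤ τ y') {y : ℕ → D.G} (hP : PRel y) (hne : y 0 ≠ y 1)
    (hy : ∃ g : D.G, g * tG A.hG A.hR * g⁻¹ = y 10)
    (bal : ∀ u : Spor.BabyMonster, orderOf u = 2 → centralizerPPrimeCore 2 u = ⊥) :
    ∀ u : Spor.BabyMonster, orderOf u = 2 → ∀ K : Subgroup Spor.BabyMonster,
      IsComponentOf K (centralizer ({u} : Set Spor.BabyMonster)) → Pr ↥K := by
  have hfin : Finite D.G := G_finite A.hO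
  have hB : Cfsg.IsB Cfsg.Spor.BabyMonster := Cfsg.Agent.S1704.result
  obtain ⟨⟨h1, h2, h3⟩, h43⟩ := ModelB.fieldsKS A H L hP hne hy hB H.x₀_mem
  obtain ⟨f₁, f₂, f₃, f₄, Fc, hcz, hcd, p, hp, hp2, hp2'⟩ := FusInst.exists_facts A H L T H.x₀_mem
  have hzm : M.z ∈ BB M x₀ := mem_centralizer_singleton_iff.2 (by
    show M.ι M.zc * M.ι x₀ = M.ι x₀ * M.ι M.zc
    rw [← map_mul, ← map_mul, M.zc_comm])
  have hE : Emb (BB M x₀).subtype M.z (tb M x₀) f₁ f₂ f₃ :=
    ⟨Subtype.val_injective, nineteen H A, ((BB M x₀).subtype.map_isConj (hcz hzm)).symm, hcd⟩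
  -- the group `²E₆(2)`
  let K := GaloisField 2 2
  let _i : Fintype K := Fintype.ofFinite K
  have hK : Fintype.card K = 4 := by
    rw [← Nat.card_eq_fintype_card]
    exact GaloisField.card 2 2 (by norm_num)
  have hF : Fintype.card K = 2 ^ 2 := by rw [hK]; norm_num
  have hsE := EInst.isSimple K hK
  obtain ⟨e0, r, he0, hgen, hr, -, hconj⟩ := TwoESix.GoodInst.exists_good K hK
  have hR : ∀ i, e0 i ∈ rootClass K := fun i => by
    obtain ⟨g, hg⟩ := hconj i
    exact ⟨g, r, hr, hg⟩
  have hHB : Finite HB := Cfsg.Agent.BM.HBFinal.finite_HB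
  have hcard := Cfsg.Agent.BM.HBFinal.hcard K hK
  have big_a : KEq.Big (BB M x₀) (tb M x₀) f₁ := by
    have hm : M.ι p ∈ BB M x₀ := by rw [← hp]; exact f₁.2
    have e : f₁ = ⟨M.ι p, hm⟩ := Subtype.ext hp
    rw [e]
    exact BigAConf.big_a L T H.x₀_mem h43 hp2 hp2'
  obtain ⟨q, yB, hpre, π, hq, h10, DK, hc5, hq5⟩ :=
    NodesB.nodes he0 hgen hcard (Cfsg.Agent.BM.HBFinal.card_E K hK) hR h1 h2 h3 Fc hE
  obtain ⟨M₁, Bs⟩ := BaseB.exists_base hq5
  have hfX : Finite Spor.BabyMonster := Finite.of_surjective q hq.surj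
  have big : KEq.Big (BB M x₀) (tb M x₀) (yB 5) := big_a.conj (fun x => (Fc.cen x).symm) hc5
  have hz : M.z = zG A.hG := Subtype.ext H.z_eq.symm
  have hL : Cfsg.Agent.Co2Type.Quad.Large (D.Q.subgroupOf D.G) M.z := by
    rw [hz]
    exact Cfsg.Agent.MonsterU.ModelChart.large A.hG A.hR A.hL A.hO A.hT
  have hr : ∀ x : D.G, x * (BB M x₀).subtype (tb M x₀) = (BB M x₀).subtype (tb M x₀) * x →
      ∃ b, (BB M x₀).subtype b = x := fun x hx => ⟨⟨x, mem_centralizer_singleton_iff.2 hx⟩, rfl⟩
  intro u hu K' hK'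
  exact comp_main (E := twistedE6 K 2) (hF := hF) hq h10 DK Fc hE.inj hr hE.conj_z hE.conj_d hL hc5 big
      (Cfsg.Agent.TwoESix.LeviG.rootFacts hK hF) (KeyInst.extra hF) (Cfsg.Agent.TwoESix.RootsInst.roots K hF)
      (EFacts.noncomm K hK) (Cfsg.Agent.BM.HBFinal.card_E K hK) (EFacts.charTwo K hK) Bs bal u hu
      K' hK'

end par

section final

open Cfsg.Agent.MonsterX Cfsg.Agent.MonsterX.Space Cfsg.Agent.MonsterX.Conc Cfsg.Agent.MonsterX.Model
open Cfsg.Agent.MonsterX.InstData Cfsg.Agent.MonsterX.MainPack Cfsg.Agent.MonsterU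
open Cfsg.Agent.MonsterP Cfsg.Agent.MonsterP.NodeData Cfsg.Agent.MonsterP.NodesConj Cfsg.Agent.CTwoTab.BInst

/-- **The components of the involution centralizers of the presented Baby Monster.** -/
theorem comp_b : ∀ u : Spor.BabyMonster, orderOf u = 2 → ∀ K : Subgroup Spor.BabyMonster,
    IsComponentOf K (centralizer ({u} : Set Spor.BabyMonster)) → Pr ↥K :=
  of_model all KDone.lnk KDone.lft
    (TauInst.tauHyp (Final.cent InstanceFinal.mOrbit Instance.mTrans)) (NodesGrp.prel H) (NodesNe.ne H)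
    conj_ten CTwoTab.B.bal

/-- **The components of the involution centralizers of the Baby Monster.** -/
theorem comp {X : Type u} [Group X] (h : Spor.IsoB X) {u : X} (hu : orderOf u = 2) {K : Subgroup X}
    (hK : IsComponentOf K (centralizer ({u} : Set X))) : Pr ↥K := by
  obtain ⟨e⟩ := h
  have h1 := isComponentOf_map e hK
  rw [map_centralizer_singleton] at h1
  exact (comp_b (e u) (by rw [MulEquiv.orderOf_eq]; exact hu) _ h1).congr (subMap e K).symm

end final

end Cfsg.Agent.H340.BabyTe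
end
end
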