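import Cfsg.Agent.H340.CF
import Cfsg.Agent.BpLin.Cent
import Cfsg.Agent.BpCl.Rows
import Cfsg.Agent.S0244
import Mathlib
import Cfsg.Agent.BpLin.PSL
import Cfsg.Agent.CpAutU.Fixed
import Cfsg.Agent.S0301
import Cfsg.Agent.S0302
import Cfsg.Agent.S0303
import Cfsg.Prelude.Def_LieTypeChar
import Cfsg.Agent.FastGrp
import Cfsg.Agent.Prune
set_option linter.all false
prune_inst 0x7ffda8fb3bf979deffdf7e77f694cffdffbbbfffe6dff9cbbfe021ff8bdf4b12cdc52b858bfb10fe0fe7621410f87b13b9ffeeffe26bd87ffffd1ff41ffbff9ffdf7b108519488340fbc2ff683f0778e7f3fffffffffefffffffffffffffffbeffbfffffffff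
open scoped Cfsg.Agent.FastGrp

-- part: H340/RingInv
section
/-!
# Composition factors of the unitary groups of finite semisimple rings with involution (helper340)

`Base r P` : the classical simple groups in characteristic `r` satisfy `P`.
-/

set_option autoImplicit false
set_option linter.unusedSectionVars false

namespace Cfsg.Agent.H340

open Subgroup Cfsg Cfsg.Agent.BpLin QuadraticMap
open Cfsg.Agent.LieClassical.OrthCore Cfsg.Agent.LieClassical.OrthTrans Cfsg.Agent.LieClassical.OrthSimple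
open Cfsg.Agent.ClassicalGeometry.SympBasic Cfsg.Agent.ClassicalGeometry.SympAutSemi
  Cfsg.Agent.ClassicalGeometry.SympIso
open scoped MatrixGroups Matrix commutatorElement

universe u

/-- The classical simple groups in characteristic `r` satisfy `P`. -/
structure Base (r : ℕ) (P : ∀ (S : Type u) [Group S], Prop) : Prop where
  psl : ∀ (F : Type) [Field F] [Finite F] [CharP F r] (n : ℕ),
    IsSimpleGroup (Matrix.ProjectiveSpecialLinearGroup (Fin n) F) → ∀ (S : Type u) [Group S],
    Nonempty (S ≃* Matrix.ProjectiveSpecialLinearGroup (Fin n) F) → P S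
  psu : ∀ (F : Type) [Field F] [Fintype F] [CharP F r] (n q : ℕ), Fintype.card F = q ^ 2 → 3 ≤ n →
    IsSimpleGroup (PSU n F q) → ∀ (S : Type u) [Group S], Nonempty (S ≃* PSU n F q) → P S
  psp : ∀ (F : Type) [Field F] [Finite F] [CharP F r] (m : ℕ), 2 ≤ m → IsSimpleGroup (PSp m F) →
    ∀ (S : Type u) [Group S], Nonempty (S ≃* PSp m F) → P S
  alt : r = 2 → ∀ (S : Type u) [Group S], Nonempty (S ≃* alternatingGroup (Fin 6)) → P S
  orth : ∀ (F V : Type) [Field F] [Finite F] [CharP F r] [AddCommGroup V] [Module F V]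
    [Module.Finite F V] (Q : QuadraticForm F V), Nondeg Q → 5 ≤ Module.finrank F V →
    IsSimpleGroup (E Q ⧸ center ↥(E Q)) → ∀ (S : Type u) [Group S],
    Nonempty (S ≃* (E Q ⧸ center ↥(E Q))) → P S

variable {r : ℕ} {P : ∀ (S : Type u) [Group S], Prop}

section Linear

variable {F : Type} [Field F] [Finite F] [CharP F r]

theorem cf_sl (hP : Base r P) (n : ℕ) : CF P (Matrix.SpecialLinearGroup (Fin n) F) := by
  rcases Nat.lt_or_ge n 2 with hn | hn
  · apply CF.of_solvable
    have : Subsingleton (Fin n) := by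
      have : n = 0 ∨ n = 1 := by omega
      rcases this with rfl | rfl <;> infer_instance
    have : Subsingleton (Matrix.SpecialLinearGroup (Fin n) F) := inferInstance
    infer_instance
  · by_cases hs : IsSimpleGroup (Matrix.ProjectiveSpecialLinearGroup (Fin n) F)
    · exact CF.of_central (Z := center _) le_rfl (CF.of_simple (hP.psl F n hs))
    · rcases Nat.eq_or_lt_of_le hn with rfl | hn
      · by_cases h : 4 ≤ Nat.card F
        · exact absurd (Matrix.ProjectiveSpecialLinearGroup.rank_two_simple h) hs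
        · exact CF.of_solvable (isSolvable_sl_two h)
      · exact absurd (LieClassical.SLGen.psl_isSimpleGroup (by rw [Fintype.card_fin]; exact hn)) hs

theorem cf_gl (hP : Base r P) (n : ℕ) : CF P (GL (Fin n) F) := by
  refine CF.of_hom_comm (Matrix.GeneralLinearGroup.det (n := Fin n) (R := F)) ?_
  rw [← range_toGL n]
  exact (cf_sl hP n).congr (MonoidHom.ofInjective (Matrix.SpecialLinearGroup.toGL_injective))

end Linear

section Unitary

variable {F : Type} [Field F] [Fintype F] [CharP F r] {q : ℕ}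

theorem cf_su (hP : Base r P) (hF : Fintype.card F = q ^ 2) (n : ℕ) : CF P ↥(SU n F q) := by
  rcases Nat.lt_or_ge n 2 with hn | hn
  · apply CF.of_solvable
    have : Subsingleton (Fin n) := by
      have : n = 0 ∨ n = 1 := by omega
      rcases this with rfl | rfl <;> infer_instance
    have : Subsingleton (Matrix.SpecialLinearGroup (Fin n) F) := inferInstance
    have : Subsingleton ↥(SU n F q) := inferInstance
    infer_instance
  · rcases Nat.eq_or_lt_of_le hn with rfl | hn
    · obtain ⟨_, _, _, _, θ, -⟩ := Phan.exists_model hF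
      exact (cf_sl (F := Phan.fixedField hF) hP 2).congr θ
    · by_cases h : n = 3 ∧ q = 2
      · obtain ⟨rfl, rfl⟩ := h
        have h1 := (S0282.result (F := F) hF).2
        exact CF.of_central (Z := center _) le_rfl (CF.of_solvable h1)
      · have h1 := S0283.result hF n hn h
        exact CF.of_central (Z := center _) le_rfl (CF.of_simple (hP.psu F n q hF hn h1))

theorem cf_gu (hP : Base r P) (hF : Fintype.card F = q ^ 2) (n : ℕ) : CF P ↥(GU n F q) := by
  refine CF.of_hom_comm ((Matrix.GeneralLinearGroup.det (n := Fin n) (R := F)).comp (GU n F q).subtype) ?_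
  have hinj : Function.Injective (suToGU n F q) := by
    intro a b hab
    apply Subtype.ext
    apply Subtype.ext
    rw [← coe_suToGU, ← coe_suToGU, hab]
  have hr : (suToGU n F q).range =
      ((Matrix.GeneralLinearGroup.det (n := Fin n) (R := F)).comp (GU n F q).subtype).ker := by
    ext A
    constructor
    · rintro ⟨g, rfl⟩
      rw [MonoidHom.mem_ker]
      apply Units.ext
      change Matrix.det ((suToGU n F q g : GL (Fin n) F) : Matrix (Fin n) (Fin n) F) = 1
      rw [coe_suToGU]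
      exact g.1.2
    · intro h
      rw [MonoidHom.mem_ker] at h
      have h1 : Matrix.det ((A : GL (Fin n) F) : Matrix (Fin n) (Fin n) F) = 1 := congrArg Units.val h
      refine ⟨⟨⟨((A : GL (Fin n) F) : Matrix (Fin n) (Fin n) F), h1⟩, ?_⟩, ?_⟩
      · exact A.2
      · apply Subtype.ext
        apply Units.ext
        rw [coe_suToGU]
  rw [← hr]
  exact (cf_su hP hF n).congr (MonoidHom.ofInjective hinj)

end Unitary

section Symp

variable {F : Type} [Field F] [Finite F] [CharP F r]

theorem cf_sp_one (hP : Base r P) : CF P ↥(Matrix.symplecticGroup (Fin 1) F) := by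
  let e : (Fin 1 ⊕ Fin 1) ≃ Fin 2 := finSumFinEquiv
  let g : ↥(Matrix.symplecticGroup (Fin 1) F) →* Matrix.SpecialLinearGroup (Fin 2) F :=
    { toFun := fun A => ⟨Matrix.reindex e e A.1, by
        rw [Matrix.det_reindex_self]; exact (S0244.result A.1).1 A.2⟩
      map_one' := by
        apply Subtype.ext
        change Matrix.reindex e e 1 = 1
        simp
      map_mul' := fun A B => by
        apply Subtype.ext
        change Matrix.reindex e e (A.1 * B.1) = Matrix.reindex e e A.1 * Matrix.reindex e e B.1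
        simp [Matrix.submatrix_mul_equiv] }
  have hg : Function.Bijective g := by
    constructor
    · intro A B h
      apply Subtype.ext
      exact (Matrix.reindex e e).injective (congrArg Subtype.val h)
    · intro B
      refine ⟨⟨(Matrix.reindex e e).symm B.1, (S0244.result _).2 ?_⟩, ?_⟩
      · rw [Matrix.reindex_symm, Matrix.det_reindex_self]; exact B.2
      · apply Subtype.ext
        exact (Matrix.reindex e e).apply_symm_apply B.1
  exact (cf_sl (F := F) hP 2).congr (MulEquiv.ofBijective g hg).symm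

theorem cf_symplectic (hP : Base r P) (m : ℕ) : CF P ↥(Matrix.symplecticGroup (Fin m) F) := by
  have := Fintype.ofFinite F
  rcases Nat.lt_or_ge m 2 with hm | hm
  · interval_cases m
    · apply CF.of_solvable
      have : Subsingleton (Matrix (Fin 0 ⊕ Fin 0) (Fin 0 ⊕ Fin 0) F) := inferInstance
      have : Subsingleton ↥(Matrix.symplecticGroup (Fin 0) F) := inferInstance
      infer_instance
    · exact cf_sp_one hP
  by_cases hs : IsSimpleGroup (PSp m F)
  · exact CF.of_central (Z := center _) le_rfl (CF.of_simple (hP.psp F m hm hs))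
  -- only `Sp_4(2)` remains
  by_cases h : 3 ≤ m ∨ (m = 2 ∧ 3 ≤ Fintype.card F)
  · exfalso
    apply hs
    have hperf := LieClassical.SympPerfect.commutator_eq_top (m := m) (F := F) (by (clear * - h; tauto))
    have hgen : transvGroup m F = ⊤ := Cfsg.Agent.S0765.result m
    refine @IsSimpleGroup.mk _ _ ?_ ?_
    · by_contra hsub
      rw [not_nontrivial_iff_subsingleton] at hsub
      have h1 : center ↥(Matrix.symplecticGroup (Fin m) F) = ⊤ := by
        rw [← QuotientGroup.subsingleton_iff]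
        exact hsub
      have h2 : commutator ↥(Matrix.symplecticGroup (Fin m) F) = ⊥ := by
        rw [commutator_def, Subgroup.commutator_eq_bot_iff_le_centralizer]
        intro x _
        have hx : x ∈ center ↥(Matrix.symplecticGroup (Fin m) F) := by rw [h1]; exact mem_top x
        exact center_le_centralizer _ hx
      rw [hperf] at h2
      have h3 := LieClassical.SympCount.card_symplecticGroup (F := F) m
      have h4 : Nat.card ↥(Matrix.symplecticGroup (Fin m) F) = 1 := by
        rw [← Nat.card_congr (Subgroup.topEquiv (G := ↥(Matrix.symplecticGroup (Fin m) F))).toEquiv, h2]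
        exact Subgroup.card_bot
      rw [h4] at h3
      have h5 : (Fintype.card F) ^ (m ^ 2) ∣ 1 := by rw [h3]; exact Dvd.intro _ rfl
      have h6 : 1 < Fintype.card F := Fintype.one_lt_card
      have h7 : (Fintype.card F) ^ (m ^ 2) = 1 := Nat.dvd_one.1 h5
      have h8 : 1 < (Fintype.card F) ^ (m ^ 2) := Nat.one_lt_pow (by positivity) h6
      omega
    · intro N hN
      have h1 : (N.comap (QuotientGroup.mk' (center ↥(Matrix.symplecticGroup (Fin m) F)))).Normal := hN.comap _
      by_cases hle : N.comap (QuotientGroup.mk' (center ↥(Matrix.symplecticGroup (Fin m) F))) ≤ center _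
      · left
        rw [eq_bot_iff]
        intro x hx
        obtain ⟨y, rfl⟩ := QuotientGroup.mk_surjective x
        exact (QuotientGroup.eq_one_iff y).2 (hle hx)
      · right
        rw [eq_top_iff]
        intro x _
        obtain ⟨y, rfl⟩ := QuotientGroup.mk_surjective x
        have h2 := LieClassical.SympSimple.commutator_le_of_not_le_center hgen _ hle
        rw [hperf] at h2
        exact h2 (mem_top y)
  push Not at h
  have hq : 2 ≤ Fintype.card F := Fintype.one_lt_card
  have hm2 : m = 2 := by omega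
  subst hm2
  have hq2 : Fintype.card F = 2 := by have := h.2 rfl; omega
  have hr : r = 2 := by
    have h1 : CharP F 2 := charP_of_card_eq_prime hq2
    exact CharP.eq F ‹CharP F r› h1
  obtain ⟨e⟩ := LieClassical.SpFourTwo.nonempty_equiv_perm hq2
  refine CF.congr ?_ e.symm
  have hs : IsSimpleGroup (alternatingGroup (Fin 6)) := alternatingGroup.isSimpleGroup (by simp)
  refine CF.of_solvable_quotient (N := alternatingGroup (Fin 6)) (CF.of_simple (hP.alt hr)) ?_
  have hc : (alternatingGroup (Fin 6)).index = 2 := alternatingGroup.index_eq_two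
  have : IsCyclic (Equiv.Perm (Fin 6) ⧸ alternatingGroup (Fin 6)) := by
    have : Fact (Nat.Prime 2) := ⟨Nat.prime_two⟩
    exact isCyclic_of_prime_card (p := 2) hc
  infer_instance

end Symp

section Bilin

variable {F V : Type} [Field F] [Finite F] [CharP F r] [AddCommGroup V] [Module F V]
  {B : LinearMap.BilinForm F V}

theorem cf_bilin (hP : Base r P) [Module.Finite F V] (hA : B.IsAlt)
    (hnd : ∀ u, (∀ v, B u v = 0) → u = 0) : CF P ↥(BpCl.Iso (fun u v => B u v)) := by
  obtain ⟨k, e, he⟩ := BpCl.exists_coords hA hnd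
  obtain ⟨f⟩ := BpCl.nonempty_symp e he
  exact (cf_symplectic hP k).congr f

end Bilin

/-- A group with a normal good subgroup containing all commutators. -/
theorem CF.of_commutator_le {H : Type*} [Group H] {N : Subgroup H} (hN : commutator H ≤ N) (h : CF P ↥N) :
    CF P H := by
  have hn : N.Normal := Subgroup.Normal.of_commutator_le _ hN
  refine CF.of_solvable_quotient (N := N) h ?_
  have : ∀ a b : H ⧸ N, a * b = b * a := by
    intro a b
    obtain ⟨x, rfl⟩ := QuotientGroup.mk_surjective a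
    obtain ⟨y, rfl⟩ := QuotientGroup.mk_surjective b
    rw [← QuotientGroup.mk_mul, ← QuotientGroup.mk_mul, QuotientGroup.eq]
    apply hN
    have e : (x * y)⁻¹ * (y * x) = ⁅y⁻¹, x⁻¹⁆ := by
      rw [commutatorElement_def]
      group
    rw [e]
    exact Subgroup.commutator_mem_commutator (mem_top _) (mem_top _)
  exact Group.isSolvable_of_comm this

section Orth

variable {F V : Type} [Field F] [AddCommGroup V] [Module F V] {Q : QuadraticForm F V}

theorem cf_three (hP : Base r P) [Finite F] [CharP F r] (h2 : (2 : F) ≠ 0) :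
    CF P ↥(Cfsg.isometryGroup F (Cfsg.quadFormOdd 1 F)) := by
  have hF : ∃ a : F, a ≠ 0 ∧ a ≠ 1 := by
    refine ⟨-1, neg_ne_zero.2 one_ne_zero, fun h => h2 ?_⟩
    linear_combination -h
  exact CF.of_commutator_le le_rfl ((cf_sl (F := F) hP 2).of_surjective _
    (LieClassical.OrthThreeOmega.psiOmega_surjective hF))

theorem cf_four_plus (hP : Base r P) [Finite F] [CharP F r] :
    CF P ↥(Cfsg.isometryGroup F (Cfsg.quadFormPlus 2 F)) := by
  obtain ⟨ε⟩ := LieClassical.OrthFourCommon.exists_isometryGroup_equiv (LieClassical.OrthFourPlus.coord F)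
    (Cfsg.quadFormPlus 2 F) (LieClassical.OrthFourPlus.dt F) LieClassical.OrthFourPlus.coord_det
  refine CF.congr ?_ ε.symm
  refine CF.of_commutator_le LieClassical.OrthFourPlus.commutator_le ?_
  exact ((cf_sl (F := F) hP 2).prod (cf_sl (F := F) hP 2)).of_surjective
    (LieClassical.OrthFourPlus.phi.rangeRestrict) (MonoidHom.rangeRestrict_surjective _)

theorem cf_four_minus (hP : Base r P) [Finite F] [CharP F r] {a b : F} (hab : GenOrth.Aniso a b) :
    CF P ↥(Cfsg.isometryGroup F (Cfsg.quadFormMinus 1 F a b)) := by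
  have : Fact (∀ r : F, r ^ 2 ≠ -b + a * r) := ⟨fun r hr => by
    have := (hab (-r) 1 (by linear_combination hr)).2
    exact one_ne_zero this⟩
  have hfin : Finite (LieClassical.OrthFourMinus.E F (-b) a) := Finite.of_equiv _ (QuadraticAlgebra.equivProd (-b) a).symm
  have hchar : CharP (LieClassical.OrthFourMinus.E F (-b) a) r := by
    have : Algebra F (LieClassical.OrthFourMinus.E F (-b) a) := inferInstance
    exact charP_of_injective_algebraMap (algebraMap F (LieClassical.OrthFourMinus.E F (-b) a)).injective r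
  obtain ⟨ε⟩ := LieClassical.OrthFourCommon.exists_isometryGroup_equiv (LieClassical.OrthFourMinus.coord F (-b) a)
    (Cfsg.quadFormMinus 1 F a b) (LieClassical.OrthFourMinus.Q (-b) a) (LieClassical.OrthFourMinus.Q_coord a b)
  refine CF.congr ?_ ε.symm
  refine CF.of_commutator_le (LieClassical.OrthFourMinus.commutator_le'
    (LieClassical.OrthFourMinus.exists_eq LieClassical.OrthFourMinus.norm_surjective)) ?_
  exact (cf_sl (F := LieClassical.OrthFourMinus.E F (-b) a) hP 2).of_surjective
    (LieClassical.OrthFourMinus.phi.rangeRestrict) (MonoidHom.rangeRestrict_surjective _)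

theorem cf_big (hP : Base r P) [Finite F] [CharP F r] [Module.Finite F V] (hQ : Nondeg Q)
    (hd : 5 ≤ Module.finrank F V) : CF P ↥(O Q) := by
  have hG := LieClassical.OrthFinite.good_of_finite hQ hd
  have hle : E Q ≤ O Q := E_le_O
  have hs : IsSimpleGroup (E Q ⧸ center ↥(E Q)) := good_isSimpleGroup hG
  refine CF.of_commutator_le (N := (E Q).subgroupOf (O Q)) ?_ ?_
  · rw [commutator_def, Subgroup.commutator_le]
    intro x _ y _
    rw [Subgroup.mem_subgroupOf]
    exact hG.commutator_le_E (Subgroup.commutator_mem_commutator x.2 y.2)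
  · exact (CF.of_central (Z := center ↥(E Q)) le_rfl (CF.of_simple (hP.orth F V Q hQ hd hs))).congr
      (Subgroup.subgroupOfEquivOfLe hle).symm

/-- The orthogonal groups of nondegenerate quadratic forms. -/
theorem cf_O (hP : Base r P) [Finite F] [CharP F r] [Module.Finite F V] (hQ : Nondeg Q) : CF P ↥(O Q) := by
  by_cases h5 : 5 ≤ Module.finrank F V
  · exact cf_big hP hQ h5
  have hN := GenOrth.normal_form (Module.finrank F V) hQ rfl
  have hlt : Module.finrank F V < 5 := by omega
  generalize hn : Module.finrank F V = n at *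
  have h01 : n ≤ 1 → Group.IsSolvable ↥(O Q) := by
    intro hn1
    apply Group.isSolvable_of_comm
    intro g h
    apply Subtype.ext
    apply LinearEquiv.ext
    intro v
    change g.1 (h.1 v) = h.1 (g.1 v)
    rcases Nat.eq_zero_or_pos n with h0 | h0
    · have : Subsingleton V := Module.finrank_zero_iff.1 (hn.trans h0)
      exact Subsingleton.elim _ _
    · obtain ⟨w, hw0, hw⟩ := finrank_eq_one_iff'.1 (show Module.finrank F V = 1 by omega)
      obtain ⟨s, hs⟩ := hw (g.1 w)
      obtain ⟨t, ht⟩ := hw (h.1 w)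
      obtain ⟨c, rfl⟩ := hw v
      rw [map_smul, map_smul, map_smul, map_smul, ← hs, ← ht, map_smul, map_smul, ← hs, ← ht, smul_comm s t]
  interval_cases n
  · exact CF.of_solvable (h01 (by norm_num))
  · exact CF.of_solvable (h01 (by norm_num))
  · exact CF.of_solvable (BpCl.Plane.isSolvable hQ hn)
  · rcases hN with ⟨k, hk, hs⟩ | ⟨k, hk, -⟩ | ⟨k, hk, -⟩
    · have hk1 : k = 1 := by omega
      subst hk1
      obtain ⟨e⟩ := BpCl.nonempty_of_sim hs
      exact (cf_three hP (BpCl.two_ne_zero_of_odd hQ hs)).congr e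
    · omega
    · omega
  · rcases hN with ⟨k, hk, -⟩ | ⟨k, hk, hs⟩ | ⟨k, hk, a, b, hab, hs⟩
    · omega
    · have hk1 : k = 2 := by omega
      subst hk1
      obtain ⟨e⟩ := BpCl.nonempty_of_sim hs
      exact (cf_four_plus hP).congr e
    · have hk1 : k = 1 := by omega
      subst hk1
      obtain ⟨e⟩ := BpCl.nonempty_of_sim hs
      exact (cf_four_minus hP hab).congr e

end Orth

end Cfsg.Agent.H340
end

-- part: H340/SemiUnit
section
/-!
# Composition factors of the unitary group of a finite semisimple ring with involution (helper340)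

`cf_unitary` : `E` a finite semisimple ring of odd characteristic, `s` an involution of `E`: the nonabelian
composition factors of `U s` are classical simple groups.
-/

set_option autoImplicit false
set_option linter.unusedSectionVars false

namespace Cfsg.Agent.H340

open Subgroup Cfsg Cfsg.Agent.BpLin

universe u

section Pi

variable {P : ∀ (S : Type u) [Group S], Prop}
variable {ι : Type} [Fintype ι] [DecidableEq ι] {R : ι → Type} [∀ i, Ring (R i)] [∀ i, IsSimpleRing (R i)]
  (s : RInv (∀ i, R i))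

/-- **The unitary group of a product of simple rings.** -/
theorem cf_unitary_pi [Finite (∀ i, R i)] (hL : ∀ i, CF P (R i)ˣ)
    (hU : ∀ i (hi : s (Pi.single i 1) = Pi.single i 1), CF P ↥(s.factor i hi).U) : CF P ↥s.U := by
  have hfin : ∀ i, Finite (R i) := fun i => Finite.of_surjective (fun x : ∀ i, R i => x i)
    (fun a => ⟨Pi.single i a, Pi.single_eq_same i a⟩)
  have : Finite (∀ i, R i)ˣ := inferInstance
  let f : ∀ i, ↥s.U →* (R i)ˣ := fun i => (Units.map (Pi.evalMonoidHom R i)).comp s.U.subtype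
  have hf : ∀ i (u : ↥s.U), ((f i u : (R i)ˣ) : R i) = ((u : (∀ i, R i)ˣ) : ∀ i, R i) i := fun _ _ => rfl
  refine CF.of_family (fun i => (f i).rangeRestrict) (fun i => (f i).rangeRestrict_surjective) ?_ ?_
  · intro i
    obtain ⟨j, hj⟩ := exists_tau s i
    by_cases hij : j = i
    · subst hij
      have hr : (f j).range = (s.factor j hj).U := by
        ext u
        constructor
        · rintro ⟨v, rfl⟩
          have h1 : ((v : (∀ i, R i)ˣ) : ∀ i, R i) * s ((v : (∀ i, R i)ˣ) : ∀ i, R i) = 1 := v.2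
          have h2 := congrFun h1 j
          rw [Pi.mul_apply, apply_of_fix s hj] at h2
          exact h2
        · intro hu
          have h1 : (u : R j) * s (Pi.single j (u : R j)) j = 1 := hu
          obtain ⟨w, hw⟩ := exists_mem_U s (v := Pi.single j (u : R j) + (1 - Pi.single j 1)) (by
            have hs : s (Pi.single j (u : R j) + (1 - Pi.single j 1))
                = s (Pi.single j (u : R j)) + (1 - Pi.single j 1) := by
              have h2 : s (1 - Pi.single j 1) + s (Pi.single j 1) = 1 := by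
                rw [← s.add, sub_add_cancel, s.one]
              rw [s.add, eq_sub_of_add_eq h2, hj]
            rw [hs]
            funext k
            by_cases hk : k = j
            · subst hk
              simpa only [_root_.Pi.mul_apply, _root_.Pi.add_apply, _root_.Pi.single_eq_same, _root_.Pi.sub_apply, _root_.Pi.one_apply, _root_.sub_self, _root_.add_zero] using h1
            · have h3 := single_supp s hj (u : R j) hk
              simp [Pi.single_eq_of_ne hk, h3])
          refine ⟨w, ?_⟩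
          apply Units.ext
          rw [hf, hw]
          simp
      rw [hr]
      exact hU j hj
    · have hr : (f i).range = ⊤ := by
        rw [eq_top_iff]
        intro u _
        have hji : s (Pi.single j 1) = Pi.single i 1 := by rw [← hj, s.inv]
        obtain ⟨w, hw⟩ := exists_mem_U s
          (v := Pi.single i (u : R i) + s (Pi.single i ((u⁻¹ : (R i)ˣ) : R i))
            + (1 - Pi.single i 1 - Pi.single j 1)) (by
            have hs : s (Pi.single i (u : R i) + s (Pi.single i ((u⁻¹ : (R i)ˣ) : R i))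
                + (1 - Pi.single i 1 - Pi.single j 1))
                = s (Pi.single i (u : R i)) + Pi.single i ((u⁻¹ : (R i)ˣ) : R i)
                + (1 - Pi.single i 1 - Pi.single j 1) := by
              have h2 : s (1 - Pi.single i 1 - Pi.single j 1) + s (Pi.single j 1) + s (Pi.single i 1) = 1 := by
                rw [← s.add, sub_add_cancel, ← s.add, sub_add_cancel, s.one]
              have h3 : s (1 - Pi.single i 1 - Pi.single j 1) = 1 - Pi.single i 1 - Pi.single j 1 := by
                rw [hj, hji] at h2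
                rw [eq_sub_iff_add_eq, eq_sub_iff_add_eq, add_right_comm]
                exact h2
              rw [s.add, s.add, s.inv, h3]
            rw [hs]
            funext k
            by_cases hk : k = i
            · subst hk
              have h4 := single_supp s hj ((u⁻¹ : (R k)ˣ) : R k) (Ne.symm hij)
              have h5 := single_supp s hj (u : R k) (Ne.symm hij)
              have h6 : (Pi.single j (1 : R j) : ∀ i, R i) k = 0 := Pi.single_eq_of_ne (Ne.symm hij) _
              simp only [h4, h5, h6, _root_.Pi.mul_apply, _root_.Pi.add_apply, _root_.Pi.single_eq_same, _root_.add_zero, _root_.Pi.sub_apply, _root_.Pi.one_apply, _root_.sub_self, _root_.zero_add, _root_.Units.mul_inv]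
            · by_cases hkj : k = j
              · subst hkj
                have h6 : (Pi.single i (1 : R i) : ∀ i, R i) k = 0 := Pi.single_eq_of_ne hk _
                have h7 : ∀ m : R i, (Pi.single i m : ∀ i, R i) k = 0 := fun m => Pi.single_eq_of_ne hk _
                have h8 : s (Pi.single i ((u⁻¹ : (R i)ˣ) : R i)) k * s (Pi.single i (u : R i)) k = 1 := by
                  have h9 : s (Pi.single i ((u⁻¹ : (R i)ˣ) : R i)) * s (Pi.single i (u : R i)) = Pi.single k 1 := by
                    rw [← s.mul, ← Pi.single_mul, Units.mul_inv, hj]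
                  have := congrFun h9 k
                  rwa [Pi.mul_apply, Pi.single_eq_same] at this
                simp only [h6, h7, h8, _root_.Pi.mul_apply, _root_.Pi.add_apply, _root_.zero_add, _root_.Pi.sub_apply, _root_.Pi.one_apply, _root_.sub_zero, _root_.Pi.single_eq_same, _root_.sub_self, _root_.add_zero]
              · have h4 := single_supp s hj ((u⁻¹ : (R i)ˣ) : R i) hkj
                have h5 := single_supp s hj (u : R i) hkj
                have h7 : ∀ m : R i, (Pi.single i m : ∀ i, R i) k = 0 := fun m => Pi.single_eq_of_ne hk _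
                have h6 : (Pi.single j (1 : R j) : ∀ i, R i) k = 0 := Pi.single_eq_of_ne hkj _
                simp only [h4, h5, h6, h7, _root_.Pi.mul_apply, _root_.Pi.add_apply, _root_.add_zero, _root_.Pi.sub_apply, _root_.Pi.one_apply, _root_.sub_zero, _root_.zero_add, _root_.mul_one])
        refine ⟨w, ?_⟩
        apply Units.ext
        rw [hf, hw]
        have h4 := single_supp s hj ((u⁻¹ : (R i)ˣ) : R i) (Ne.symm hij)
        have h6 : (Pi.single j (1 : R j) : ∀ i, R i) i = 0 := Pi.single_eq_of_ne (Ne.symm hij) _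
        simp [h4, h6]
      rw [hr]
      exact (hL i).congr Subgroup.topEquiv.symm
  · have hk : (⨅ i, ((f i).rangeRestrict).ker) = ⊥ := by
      rw [eq_bot_iff]
      intro u hu
      rw [mem_iInf] at hu
      rw [mem_bot]
      apply Subtype.ext
      apply Units.ext
      funext i
      have h1 := hu i
      rw [MonoidHom.ker_rangeRestrict, MonoidHom.mem_ker] at h1
      exact congrArg Units.val h1
    rw [hk]
    infer_instance

end Pi

section Matrix

open Matrix
open Cfsg.Agent.ClassicalGeometry.InvolutiveNorm Cfsg.Agent.ClassicalGeometry.HermOrthonormal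

variable {R : ∀ (S : Type u) [Group S], Prop}
variable {D : Type} [Field D] {d : ℕ} [NeZero d] (s : RInv (Matrix (Fin d) (Fin d) D))

theorem cf_unitary_second [Fintype D] {r : ℕ} [CharP D r] (hB : Base r R)
    (h2 : ∃ z ∈ Subring.center (Matrix (Fin d) (Fin d) D), s z ≠ z) : CF R ↥s.U := by
  obtain ⟨σ, hσ2, hs⟩ := exists_sigma s
  have hσ : σ ≠ RingHom.id D := by
    rintro rfl
    obtain ⟨z, hz, hz2⟩ := h2
    obtain ⟨c, rfl⟩ := exists_scalar hz
    exact hz2 (hs c)
  obtain ⟨P, hPs, hP⟩ := exists_herm s hσ hσ2 hs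
  obtain ⟨Q, hQ⟩ := exists_sqrt hσ hσ2 P hPs
  obtain ⟨q, hq, hσq⟩ := exists_card_sq hσ hσ2
  rw [Nat.card_eq_fintype_card] at hq
  have key : s.U.map (MulAut.conj Q⁻¹).toMonoidHom = GU d D q := by
    have hQ1 : (Q : Matrix (Fin d) (Fin d) D) * ((Q⁻¹ : GL (Fin d) D) : Matrix (Fin d) (Fin d) D) = 1 := Q.mul_inv
    have hQ2 : ((Q⁻¹ : GL (Fin d) D) : Matrix (Fin d) (Fin d) D) * (Q : Matrix (Fin d) (Fin d) D) = 1 := Q.inv_mul
    have hP1 : (P : Matrix (Fin d) (Fin d) D) * ((P⁻¹ : GL (Fin d) D) : Matrix (Fin d) (Fin d) D) = 1 := P.mul_inv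
    have hP2 : ((P⁻¹ : GL (Fin d) D) : Matrix (Fin d) (Fin d) D) * (P : Matrix (Fin d) (Fin d) D) = 1 := P.inv_mul
    have hst : cst σ (Q : Matrix (Fin d) (Fin d) D) * cst σ ((Q⁻¹ : GL (Fin d) D) : Matrix (Fin d) (Fin d) D) = 1 := by
      rw [← cst_mul, hQ2, cst_one]
    have hst' : cst σ ((Q⁻¹ : GL (Fin d) D) : Matrix (Fin d) (Fin d) D) * cst σ (Q : Matrix (Fin d) (Fin d) D) = 1 := by
      rw [← cst_mul, hQ1, cst_one]
    -- the main computation
    have hmain : ∀ w : Matrix (Fin d) (Fin d) D,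
        ((Q : Matrix (Fin d) (Fin d) D) * w * ((Q⁻¹ : GL (Fin d) D) : Matrix (Fin d) (Fin d) D)) *
          s ((Q : Matrix (Fin d) (Fin d) D) * w * ((Q⁻¹ : GL (Fin d) D) : Matrix (Fin d) (Fin d) D)) =
        (Q : Matrix (Fin d) (Fin d) D) * (w * cst σ w) * (cst σ (Q : Matrix (Fin d) (Fin d) D) *
          ((P⁻¹ : GL (Fin d) D) : Matrix (Fin d) (Fin d) D)) := by
      intro w
      rw [hP, hQ, cst_mul, cst_mul]
      calc (Q : Matrix (Fin d) (Fin d) D) * w * ((Q⁻¹ : GL (Fin d) D) : Matrix (Fin d) (Fin d) D) *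
            ((Q : Matrix (Fin d) (Fin d) D) * cst σ (Q : Matrix (Fin d) (Fin d) D) *
            (cst σ ((Q⁻¹ : GL (Fin d) D) : Matrix (Fin d) (Fin d) D) * (cst σ w * cst σ (Q : Matrix (Fin d) (Fin d) D)))
            * ((P⁻¹ : GL (Fin d) D) : Matrix (Fin d) (Fin d) D))
          = (Q : Matrix (Fin d) (Fin d) D) * w * (((Q⁻¹ : GL (Fin d) D) : Matrix (Fin d) (Fin d) D) *
            (Q : Matrix (Fin d) (Fin d) D)) * (cst σ (Q : Matrix (Fin d) (Fin d) D) *
            cst σ ((Q⁻¹ : GL (Fin d) D) : Matrix (Fin d) (Fin d) D)) * cst σ w *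
            (cst σ (Q : Matrix (Fin d) (Fin d) D) * ((P⁻¹ : GL (Fin d) D) : Matrix (Fin d) (Fin d) D)) := by
            simp only [mul_assoc]
        _ = _ := by rw [hQ2, hst, mul_one, mul_one]; simp only [mul_assoc]
    ext w
    rw [mem_GU_iff_cst hq hσq]
    constructor
    · rintro ⟨u, hu, rfl⟩
      have hu1 : (u : Matrix (Fin d) (Fin d) D) * s (u : Matrix (Fin d) (Fin d) D) = 1 := hu
      have hw : ((MulAut.conj Q⁻¹).toMonoidHom u : GL (Fin d) D) = Q⁻¹ * u * Q := by
        change Q⁻¹ * u * (Q⁻¹)⁻¹ = _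
        rw [inv_inv]
      rw [hw]
      set w := Q⁻¹ * u * Q with hwdef
      have hu2 : (u : Matrix (Fin d) (Fin d) D) = (Q : Matrix (Fin d) (Fin d) D) * (w : Matrix (Fin d) (Fin d) D) *
          ((Q⁻¹ : GL (Fin d) D) : Matrix (Fin d) (Fin d) D) := by
        rw [← Units.val_mul, ← Units.val_mul]
        congr 1
        rw [hwdef]; group
      rw [hu2, hmain] at hu1
      calc (w : Matrix (Fin d) (Fin d) D) * cst σ (w : Matrix (Fin d) (Fin d) D)
          = (((Q⁻¹ : GL (Fin d) D) : Matrix (Fin d) (Fin d) D) * (Q : Matrix (Fin d) (Fin d) D)) *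
            ((w : Matrix (Fin d) (Fin d) D) * cst σ (w : Matrix (Fin d) (Fin d) D)) *
            (cst σ (Q : Matrix (Fin d) (Fin d) D) * (((P⁻¹ : GL (Fin d) D) : Matrix (Fin d) (Fin d) D) *
            (P : Matrix (Fin d) (Fin d) D)) * cst σ ((Q⁻¹ : GL (Fin d) D) : Matrix (Fin d) (Fin d) D)) := by
            rw [hQ2, hP2, mul_one, hst, one_mul, mul_one]
        _ = ((Q⁻¹ : GL (Fin d) D) : Matrix (Fin d) (Fin d) D) * ((Q : Matrix (Fin d) (Fin d) D) *
            ((w : Matrix (Fin d) (Fin d) D) * cst σ (w : Matrix (Fin d) (Fin d) D)) *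
            (cst σ (Q : Matrix (Fin d) (Fin d) D) * ((P⁻¹ : GL (Fin d) D) : Matrix (Fin d) (Fin d) D))) *
            ((P : Matrix (Fin d) (Fin d) D) * cst σ ((Q⁻¹ : GL (Fin d) D) : Matrix (Fin d) (Fin d) D)) := by
            simp only [mul_assoc]
        _ = 1 := by
          rw [hu1, mul_one, hQ]
          calc ((Q⁻¹ : GL (Fin d) D) : Matrix (Fin d) (Fin d) D) * ((Q : Matrix (Fin d) (Fin d) D) *
                cst σ (Q : Matrix (Fin d) (Fin d) D) * cst σ ((Q⁻¹ : GL (Fin d) D) : Matrix (Fin d) (Fin d) D))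
              = (((Q⁻¹ : GL (Fin d) D) : Matrix (Fin d) (Fin d) D) * (Q : Matrix (Fin d) (Fin d) D)) *
                (cst σ (Q : Matrix (Fin d) (Fin d) D) *
                cst σ ((Q⁻¹ : GL (Fin d) D) : Matrix (Fin d) (Fin d) D)) := by simp only [mul_assoc]
            _ = 1 := by rw [hQ2, hst, one_mul]
    · intro hw
      refine ⟨Q * w * Q⁻¹, ?_, ?_⟩
      · change ((Q * w * Q⁻¹ : GL (Fin d) D) : Matrix (Fin d) (Fin d) D) *
          s ((Q * w * Q⁻¹ : GL (Fin d) D) : Matrix (Fin d) (Fin d) D) = 1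
        rw [Units.val_mul, Units.val_mul, hmain, hw, mul_one, ← mul_assoc, ← hQ, hP1]
      · change Q⁻¹ * (Q * w * Q⁻¹) * (Q⁻¹)⁻¹ = w
        group
  have e : ↥s.U ≃* ↥(GU d D q) :=
    (s.U.equivMapOfInjective _ (MulAut.conj Q⁻¹).injective).trans (MulEquiv.subgroupCongr key)
  exact (cf_gu hB hq d).congr e.symm

/-! ### Involutions of the first kind -/

/-- An involution of the first kind is `A ↦ P Aᵀ P⁻¹` with `Pᵀ = ± P`. -/
theorem exists_first (hs : ∀ c, s (Matrix.scalar (Fin d) c) = Matrix.scalar (Fin d) c) :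
    ∃ P : GL (Fin d) D, ((P : Matrix (Fin d) (Fin d) D)ᵀ = P ∨ (P : Matrix (Fin d) (Fin d) D)ᵀ = -P) ∧
      ∀ A, s A = (P : Matrix (Fin d) (Fin d) D) * Aᵀ * ((P⁻¹ : GL (Fin d) D) : Matrix (Fin d) (Fin d) D) := by
  obtain ⟨P, hP⟩ := exists_form_aux s (σ := RingHom.id D) (fun _ => rfl) hs
  have hcst : ∀ A : Matrix (Fin d) (Fin d) D, cst (RingHom.id D) A = Aᵀ := fun A => by
    ext i j; rfl
  have hP' : ∀ A, s A = (P : Matrix (Fin d) (Fin d) D) * Aᵀ *
      ((P⁻¹ : GL (Fin d) D) : Matrix (Fin d) (Fin d) D) := fun A => by rw [hP, hcst]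
  refine ⟨P, ?_, hP'⟩
  set M := (P : Matrix (Fin d) (Fin d) D) with hM
  set M' := ((P⁻¹ : GL (Fin d) D) : Matrix (Fin d) (Fin d) D) with hM'
  have hMM' : M * M' = 1 := P.mul_inv
  have hM'M : M' * M = 1 := P.inv_mul
  have hstar' : Mᵀ * M'ᵀ = 1 := by rw [← Matrix.transpose_mul, hM'M, Matrix.transpose_one]
  have hC : Mᵀ * M' ∈ Subring.center (Matrix (Fin d) (Fin d) D) := by
    rw [Subring.mem_center_iff]
    intro A
    have h1 := s.inv A
    rw [hP', hP', Matrix.transpose_mul, Matrix.transpose_mul, Matrix.transpose_transpose] at h1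
    calc A * (Mᵀ * M') = (Mᵀ * M') * (M * (M'ᵀ * (A * Mᵀ)) * M') := by
          rw [show Mᵀ * M' * (M * (M'ᵀ * (A * Mᵀ)) * M')
              = Mᵀ * (M' * M) * M'ᵀ * A * Mᵀ * M' by simp only [mul_assoc]]
          rw [hM'M, mul_one, hstar', one_mul, mul_assoc]
      _ = (Mᵀ * M') * A := by rw [h1]
  obtain ⟨c, hc⟩ := exists_scalar hC
  have hc1 : Mᵀ = c • M := by
    have h1 : Mᵀ = Mᵀ * M' * M := by rw [mul_assoc, hM'M, mul_one]
    rw [h1, hc, Matrix.scalar_apply, ← Matrix.smul_one_eq_diagonal, Matrix.smul_mul, one_mul]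
  have hM0 : M ≠ 0 := by
    intro h
    rw [h, zero_mul] at hMM'
    exact zero_ne_one hMM'
  have hc2 : c * c = 1 := by
    have h1 : Mᵀᵀ = (c * c) • M := by rw [hc1, Matrix.transpose_smul, hc1, smul_smul]
    rw [Matrix.transpose_transpose] at h1
    have h2 : (1 - c * c) • M = 0 := by rw [sub_smul, one_smul, ← h1, sub_self]
    rcases smul_eq_zero.mp h2 with h3 | h3
    · exact (sub_eq_zero.mp h3).symm
    · exact absurd h3 hM0
  rcases mul_self_eq_one_iff.1 hc2 with h | h
  · left; rw [hc1, h, one_smul]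
  · right; rw [hc1, h, neg_one_smul]

/-- The bilinear form with matrix `P` on row vectors. -/
noncomputable def formOf (P : Matrix (Fin d) (Fin d) D) : LinearMap.BilinForm D (Fin d → D) :=
  Matrix.toBilin' P

omit [NeZero d] in
theorem formOf_apply (P : Matrix (Fin d) (Fin d) D) (x y : Fin d → D) :
    formOf P x y = x ⬝ᵥ (P *ᵥ y) := Matrix.toBilin'_apply' P x y

omit [NeZero d] in
theorem formOf_vecMul (P : Matrix (Fin d) (Fin d) D) (A : Matrix (Fin d) (Fin d) D) (x y : Fin d → D) :
    formOf P (x ᵥ* A) (y ᵥ* A) = formOf (A * P * Aᵀ) x y := by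
  rw [formOf_apply, formOf_apply, ← Matrix.dotProduct_mulVec, Matrix.mulVec_mulVec, ← Matrix.mulVec_transpose,
    Matrix.mulVec_mulVec]

omit [NeZero d] in
theorem formOf_injective {P P' : Matrix (Fin d) (Fin d) D} (h : ∀ x y, formOf P x y = formOf P' x y) :
    P = P' := by
  apply Matrix.toBilin'.injective
  ext x y
  exact h _ _

/-- **The unitary group of an involution of the first kind is the isometry group of a form.** -/
theorem exists_equiv_first {P : GL (Fin d) D}
    (hP : ∀ A, s A = (P : Matrix (Fin d) (Fin d) D) * Aᵀ * ((P⁻¹ : GL (Fin d) D) : Matrix (Fin d) (Fin d) D)) :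
    Nonempty (↥s.U ≃* ↥(BpCl.Iso (fun u v => formOf (P : Matrix (Fin d) (Fin d) D) u v))) := by
  have hU : ∀ u : (Matrix (Fin d) (Fin d) D)ˣ, u ∈ s.U ↔
      (u : Matrix (Fin d) (Fin d) D) * P * (u : Matrix (Fin d) (Fin d) D)ᵀ = P := by
    intro u
    rw [RInv.mem_U, hP]
    constructor
    · intro h
      calc (u : Matrix (Fin d) (Fin d) D) * P * (u : Matrix (Fin d) (Fin d) D)ᵀ
          = (u * (P * (u : Matrix (Fin d) (Fin d) D)ᵀ * ((P⁻¹ : GL (Fin d) D) : Matrix (Fin d) (Fin d) D))) *
            (P : Matrix (Fin d) (Fin d) D) := by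
            simp only [mul_assoc]
            rw [Units.inv_mul, mul_one]
        _ = P := by rw [h, one_mul]
    · intro h
      rw [← mul_assoc, ← mul_assoc, h, Units.mul_inv]
  let Φ : (Matrix (Fin d) (Fin d) D)ˣ →* ((Fin d → D) ≃ₗ[D] (Fin d → D)) :=
    { toFun := fun u =>
        { toFun := fun v => v ᵥ* ((u⁻¹ : (Matrix (Fin d) (Fin d) D)ˣ) : Matrix (Fin d) (Fin d) D)
          invFun := fun v => v ᵥ* (u : Matrix (Fin d) (Fin d) D)
          map_add' := fun x y => Matrix.add_vecMul _ x y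
          map_smul' := fun c x => Matrix.smul_vecMul c x _
          left_inv := fun v => by
            change (v ᵥ* _) ᵥ* _ = v
            rw [Matrix.vecMul_vecMul, Units.inv_mul, Matrix.vecMul_one]
          right_inv := fun v => by
            change (v ᵥ* _) ᵥ* _ = v
            rw [Matrix.vecMul_vecMul, Units.mul_inv, Matrix.vecMul_one] }
      map_one' := by
        apply LinearEquiv.ext
        intro v
        change v ᵥ* (((1 : (Matrix (Fin d) (Fin d) D)ˣ)⁻¹ : (Matrix (Fin d) (Fin d) D)ˣ) : Matrix (Fin d) (Fin d) D) = v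
        rw [inv_one, Units.val_one, Matrix.vecMul_one]
      map_mul' := fun u w => by
        apply LinearEquiv.ext
        intro v
        change v ᵥ* (((u * w)⁻¹ : (Matrix (Fin d) (Fin d) D)ˣ) : Matrix (Fin d) (Fin d) D) =
          (v ᵥ* ((w⁻¹ : (Matrix (Fin d) (Fin d) D)ˣ) : Matrix (Fin d) (Fin d) D)) ᵥ*
            ((u⁻¹ : (Matrix (Fin d) (Fin d) D)ˣ) : Matrix (Fin d) (Fin d) D)
        rw [_root_.mul_inv_rev, Units.val_mul, Matrix.vecMul_vecMul] }
  have hΦ : ∀ u v, Φ u v = v ᵥ* ((u⁻¹ : (Matrix (Fin d) (Fin d) D)ˣ) : Matrix (Fin d) (Fin d) D) := fun _ _ => rfl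
  have hmem : ∀ u : ↥s.U, (Φ.comp s.U.subtype) u ∈ BpCl.Iso (fun u v => formOf (P : Matrix (Fin d) (Fin d) D) u v) := by
    intro u x y
    change formOf (P : Matrix (Fin d) (Fin d) D) (Φ (u : _) x) (Φ (u : _) y) = formOf _ x y
    rw [hΦ, hΦ, formOf_vecMul, (hU _).1 (s.U.inv_mem u.2)]
  refine ⟨MulEquiv.ofBijective ((Φ.comp s.U.subtype).codRestrict _ hmem) ⟨?_, ?_⟩⟩
  · intro a b hab
    have h1 : Φ (a : _) = Φ (b : _) := congrArg Subtype.val hab
    have h2 : (((a : (Matrix (Fin d) (Fin d) D)ˣ)⁻¹ : (Matrix (Fin d) (Fin d) D)ˣ) : Matrix (Fin d) (Fin d) D) =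
        (((b : (Matrix (Fin d) (Fin d) D)ˣ)⁻¹ : (Matrix (Fin d) (Fin d) D)ˣ) : Matrix (Fin d) (Fin d) D) := by
      ext i j
      have h3 := congrFun (LinearEquiv.congr_fun h1 (Pi.single i 1)) j
      rw [hΦ, hΦ, Matrix.single_one_vecMul, Matrix.single_one_vecMul] at h3
      exact h3
    apply Subtype.ext
    exact inv_injective (Units.ext h2)
  · rintro ⟨T, hT⟩
    let A : Matrix (Fin d) (Fin d) D := (LinearMap.toMatrix' T.toLinearMap)ᵀ
    let A' : Matrix (Fin d) (Fin d) D := (LinearMap.toMatrix' T.symm.toLinearMap)ᵀ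
    have hA : ∀ v, v ᵥ* A = T v := by
      intro v
      rw [Matrix.vecMul_transpose]
      exact LinearMap.toMatrix'_mulVec _ _
    have hAA' : A * A' = 1 := by
      rw [← Matrix.transpose_mul, ← LinearMap.toMatrix'_comp]
      have : T.symm.toLinearMap.comp T.toLinearMap = LinearMap.id := LinearMap.ext fun v => T.symm_apply_apply v
      rw [this, LinearMap.toMatrix'_id, Matrix.transpose_one]
    have hA'A : A' * A = 1 := by
      rw [← Matrix.transpose_mul, ← LinearMap.toMatrix'_comp]
      have : T.toLinearMap.comp T.symm.toLinearMap = LinearMap.id := LinearMap.ext fun v => T.apply_symm_apply v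
      rw [this, LinearMap.toMatrix'_id, Matrix.transpose_one]
    have hAP : A * P * Aᵀ = (P : Matrix (Fin d) (Fin d) D) := by
      apply formOf_injective
      intro x y
      rw [← formOf_vecMul, hA, hA]
      exact hT x y
    let w : (Matrix (Fin d) (Fin d) D)ˣ := ⟨A, A', hAA', hA'A⟩
    have hw : w ∈ s.U := (hU w).2 hAP
    refine ⟨⟨w⁻¹, s.U.inv_mem hw⟩, ?_⟩
    apply Subtype.ext
    apply LinearEquiv.ext
    intro v
    change Φ w⁻¹ v = T v
    rw [hΦ, inv_inv]
    exact hA v

/-- Involutions of the first kind in odd characteristic. -/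
theorem cf_unitary_first [Finite D] {r : ℕ} [CharP D r] (hr : r ≠ 2) (hB : Base r R)
    (hs : ∀ c, s (Matrix.scalar (Fin d) c) = Matrix.scalar (Fin d) c) : CF R ↥s.U := by
  have h2 : (2 : D) ≠ 0 := by
    intro h
    have h3 : r ∣ 2 := (CharP.cast_eq_zero_iff D r 2).1 (by exact_mod_cast h)
    rcases (Nat.dvd_prime Nat.prime_two).1 h3 with h4 | h4
    · exact CharP.char_ne_one D r h4
    · exact hr h4
  obtain ⟨P, hPs, hP⟩ := exists_first s hs
  obtain ⟨e⟩ := exists_equiv_first s hP
  refine CF.congr ?_ e.symm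
  have hnd : ∀ u, (∀ v, formOf (P : Matrix (Fin d) (Fin d) D) u v = 0) → u = 0 := by
    intro u hu
    have h1 : u ᵥ* (P : Matrix (Fin d) (Fin d) D) = 0 := by
      funext j
      have h3 := hu (Pi.single j 1)
      rw [formOf_apply, Matrix.dotProduct_mulVec, dotProduct_single, mul_one] at h3
      exact h3
    have h3 : (u ᵥ* (P : Matrix (Fin d) (Fin d) D)) ᵥ* ((P⁻¹ : GL (Fin d) D) : Matrix (Fin d) (Fin d) D) = 0 := by
      rw [h1, Matrix.zero_vecMul]
    rwa [Matrix.vecMul_vecMul, Units.mul_inv, Matrix.vecMul_one] at h3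
  have hsw : ∀ x y, formOf (P : Matrix (Fin d) (Fin d) D)ᵀ x y = formOf (P : Matrix (Fin d) (Fin d) D) y x := by
    intro x y
    rw [formOf_apply, formOf_apply, Matrix.mulVec_transpose, dotProduct_comm, Matrix.dotProduct_mulVec]
  rcases hPs with hPs | hPs
  · -- symmetric
    have hsym : ∀ x y, formOf (P : Matrix (Fin d) (Fin d) D) x y = formOf (P : Matrix (Fin d) (Fin d) D) y x := by
      intro x y; rw [← hsw, hPs]
    let Q : QuadraticForm D (Fin d → D) := (formOf (P : Matrix (Fin d) (Fin d) D)).toQuadraticMap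
    have hQ : ∀ x, Q x = formOf (P : Matrix (Fin d) (Fin d) D) x x := fun _ => rfl
    have hpol : ∀ x y, QuadraticMap.polar Q x y = 2 * formOf (P : Matrix (Fin d) (Fin d) D) x y := by
      intro x y
      have h1 : formOf (P : Matrix (Fin d) (Fin d) D) (x + y) (x + y) =
          formOf (P : Matrix (Fin d) (Fin d) D) x x + formOf (P : Matrix (Fin d) (Fin d) D) x y +
          (formOf (P : Matrix (Fin d) (Fin d) D) y x + formOf (P : Matrix (Fin d) (Fin d) D) y y) := by
        rw [LinearMap.map_add₂, map_add, map_add]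
      rw [QuadraticMap.polar, hQ, hQ, hQ, h1, hsym y x]
      ring
    have hQn : LieClassical.OrthCore.Nondeg Q := by
      intro x hx
      apply hnd
      intro y
      have h1 := hx y
      rw [hpol] at h1
      exact (mul_eq_zero.1 h1).resolve_left h2
    have heq : BpCl.Iso (fun u v => formOf (P : Matrix (Fin d) (Fin d) D) u v) = LieClassical.OrthCore.O Q := by
      ext g
      constructor
      · intro h v
        exact h v v
      · intro h x y
        have h' : ∀ v, Q (g v) = Q v := h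
        have h1 : QuadraticMap.polar Q (g x) (g y) = QuadraticMap.polar Q x y := by
          rw [QuadraticMap.polar, QuadraticMap.polar, ← map_add, h', h', h']
        rw [hpol, hpol] at h1
        exact mul_left_cancel₀ h2 h1
    rw [heq]
    exact cf_O hB hQn
  · -- alternating
    refine cf_bilin hB (B := formOf (P : Matrix (Fin d) (Fin d) D)) ?_ hnd
    intro x
    have h1 := hsw x x
    rw [hPs, formOf_apply, formOf_apply, Matrix.neg_mulVec, dotProduct_neg] at h1
    rw [formOf_apply]
    have h3 : 2 * (x ⬝ᵥ (P : Matrix (Fin d) (Fin d) D) *ᵥ x) = 0 := by linear_combination -h1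
    exact (mul_eq_zero.1 h3).resolve_left h2

/-- All involutions of matrix rings in odd characteristic. -/
theorem cf_unitary_matrix [Finite D] {r : ℕ} [CharP D r] (hr : r ≠ 2) (hB : Base r R) : CF R ↥s.U := by
  have := Fintype.ofFinite D
  by_cases h : ∃ z ∈ Subring.center (Matrix (Fin d) (Fin d) D), s z ≠ z
  · exact cf_unitary_second s hB h
  · push Not at h
    exact cf_unitary_first s hr hB fun c => h _ (scalar_mem_center c)

end Matrix

section Semisimple

variable {R : ∀ (S : Type u) [Group S], Prop} {r : ℕ}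

theorem cf_unitary_matrix' {D : Type} [DivisionRing D] [Finite D] [CharP D r] {d : ℕ} [NeZero d]
    (hr : r ≠ 2) (hB : Base r R) (s : RInv (Matrix (Fin d) (Fin d) D)) : CF R ↥s.U := by
  let _ : Field D := littleWedderburn D
  exact cf_unitary_matrix s hr hB

theorem cf_units_matrix {D : Type} [DivisionRing D] [Finite D] [CharP D r] (hB : Base r R) (d : ℕ) :
    CF R (Matrix (Fin d) (Fin d) D)ˣ := by
  let _ : Field D := littleWedderburn D
  exact cf_gl (F := D) hB d

/-- The factors of a finite ring of characteristic `r`. -/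
theorem charP_factor {n : ℕ} {D : Fin n → Type} {d : Fin n → ℕ} [∀ i, DivisionRing (D i)] [∀ i, NeZero (d i)]
    (hr : r.Prime) {E : Type} [Ring E] [CharP E r] (e : E ≃+* ∀ i, Matrix (Fin (d i)) (Fin (d i)) (D i))
    (i : Fin n) : CharP (D i) r := by
  have h1 : ((r : ℕ) : D i) = 0 := by
    have h2 : e ((r : ℕ) : E) = 0 := by rw [CharP.cast_eq_zero, map_zero]
    rw [map_natCast] at h2
    have h3 := congrFun h2 i
    rw [Pi.natCast_apply] at h3
    have h4 := congrFun (congrFun h3 0) 0
    rw [Matrix.natCast_apply, if_pos rfl] at h4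
    exact h4
  have h2 : ringChar (D i) ∣ r := ringChar.dvd h1
  rcases (Nat.dvd_prime hr).1 h2 with h3 | h3
  · exact absurd h3 (CharP.ringChar_ne_one)
  · rw [← h3]; infer_instance

/-- The group of units of a finite semisimple ring. -/
theorem cf_units (hr : r.Prime) (hB : Base r R) (E : Type) [Ring E] [Finite E] [IsSemisimpleRing E]
    [CharP E r] : CF R Eˣ := by
  obtain ⟨n, D, d, hD, hd, ⟨e⟩⟩ := IsSemisimpleRing.exists_ringEquiv_pi_matrix_divisionRing E
  have hfin : Finite (∀ i, Matrix (Fin (d i)) (Fin (d i)) (D i)) := Finite.of_equiv E e.toEquiv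
  have hfin2 : ∀ i, Finite (Matrix (Fin (d i)) (Fin (d i)) (D i)) := fun i =>
    Finite.of_surjective (fun x : ∀ i, Matrix (Fin (d i)) (Fin (d i)) (D i) => x i)
      (fun a => ⟨Pi.single i a, by simp⟩)
  have hfin3 : ∀ i, Finite (D i) := fun i =>
    Finite.of_injective (fun c : D i => Matrix.scalar (Fin (d i)) c) (fun a b h => by
      have : Nonempty (Fin (d i)) := ⟨0⟩
      exact Matrix.scalar_inj.mp h)
  have h1 : CF R (∀ i, (Matrix (Fin (d i)) (Fin (d i)) (D i))ˣ) :=
    CF.pi fun i => by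
      have := charP_factor hr e i
      exact cf_units_matrix hB (d i)
  exact h1.congr (MulEquiv.piUnits.symm.trans (Units.mapEquiv e.symm.toMulEquiv))

/-- **The unitary group of a finite semisimple ring with involution, odd characteristic.** -/
theorem cf_unitary (hr : r.Prime) (hr2 : r ≠ 2) (hB : Base r R) {E : Type} [Ring E] [Finite E]
    [IsSemisimpleRing E] [CharP E r] (s : RInv E) : CF R ↥s.U := by
  classical
  obtain ⟨n, D, d, hD, hd, ⟨e⟩⟩ := IsSemisimpleRing.exists_ringEquiv_pi_matrix_divisionRing E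
  have hfin : Finite (∀ i, Matrix (Fin (d i)) (Fin (d i)) (D i)) := Finite.of_equiv E e.toEquiv
  have hfin2 : ∀ i, Finite (Matrix (Fin (d i)) (Fin (d i)) (D i)) := fun i =>
    Finite.of_surjective (fun x : ∀ i, Matrix (Fin (d i)) (Fin (d i)) (D i) => x i)
      (fun a => ⟨Pi.single i a, by simp⟩)
  have hne : ∀ i, Nonempty (Fin (d i)) := fun i => ⟨0⟩
  have hfin3 : ∀ i, Finite (D i) := fun i =>
    Finite.of_injective (fun c : D i => Matrix.scalar (Fin (d i)) c) (fun a b h => Matrix.scalar_inj.mp h)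
  have key : CF R ↥(s.congr e).U := by
    refine cf_unitary_pi (s.congr e) (fun i => ?_) fun i hi => ?_
    · have := charP_factor hr e i
      exact cf_units_matrix hB (d i)
    · have := charP_factor hr e i
      exact cf_unitary_matrix' hr2 hB _
  exact key.congr (s.congrU e).symm

end Semisimple

end Cfsg.Agent.H340
end

-- part: H340/FixRing
section
/-!
# Fixed rings of involutory automorphisms (helper340)

`isSemisimpleRing_fixed` : `A` a finite semisimple ring in which `2` is invertible, `τ` a ring automorphism with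
`τ² = 1`: the ring of fixed points is semisimple.
-/

set_option autoImplicit false

namespace Cfsg.Agent.H340

/-- A semisimple ring is von Neumann regular. -/
theorem exists_regular {A : Type*} [Ring A] [IsSemisimpleRing A] (x : A) : ∃ a : A, x * a * x = x := by
  obtain ⟨I', hI⟩ := exists_isCompl (Submodule.span A {x})
  have h1 : (1 : A) ∈ Submodule.span A {x} ⊔ I' := by
    rw [hI.sup_eq_top]; exact Submodule.mem_top
  obtain ⟨e, he, e', he', hee⟩ := Submodule.mem_sup.1 h1
  obtain ⟨a, rfl⟩ := Submodule.mem_span_singleton.1 he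
  refine ⟨a, ?_⟩
  have hx : x = x * (a * x) + x * e' := by
    rw [← mul_add, ← smul_eq_mul a x, hee, mul_one]
  have h2 : x * e' ∈ Submodule.span A {x} := by
    have h3 : x * e' = x - x * (a * x) := eq_sub_of_add_eq' hx.symm
    rw [h3]
    refine Submodule.sub_mem _ (Submodule.mem_span_singleton_self x) ?_
    rw [← mul_assoc]
    exact Submodule.smul_mem _ _ (Submodule.mem_span_singleton_self x)
  have h3 : x * e' ∈ I' := Submodule.smul_mem _ _ he'
  have h4 : x * e' = 0 := by
    have h5 : x * e' ∈ Submodule.span A {x} ⊓ I' := ⟨h2, h3⟩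
    rw [hI.inf_eq_bot] at h5
    exact (Submodule.mem_bot A).1 h5
  rw [h4, add_zero, ← mul_assoc] at hx
  exact hx.symm

/-- A finite semiprime ring is semisimple. -/
theorem isSemisimpleRing_of_semiprime {E : Type*} [Ring E] [Finite E]
    (h : ∀ x : E, (∀ a, x * a * x = 0) → x = 0) : IsSemisimpleRing E := by
  have : IsArtinianRing E := inferInstance
  rw [IsArtinianRing.isSemisimpleRing_iff_jacobson]
  obtain ⟨n, hn⟩ := IsSemiprimaryRing.isNilpotent (R := E)
  by_contra hne
  -- the least power which is zero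
  have hex : ∃ k, Ring.jacobson E ^ k = 0 := ⟨n, hn⟩
  classical
  set k := Nat.find hex with hk
  have hk0 : Ring.jacobson E ^ k = 0 := Nat.find_spec hex
  have hk2 : 2 ≤ k := by
    by_contra hlt
    have h1 : k = 0 ∨ k = 1 := by omega
    rcases h1 with h1 | h1
    · rw [h1, Submodule.pow_zero] at hk0
      apply hne
      have h2 : (⊤ : Ideal E) = ⊥ := by
        rw [← Ideal.one_eq_top]; exact hk0
      rw [eq_bot_iff, ← h2]
      exact le_top
    · rw [h1, Submodule.pow_one] at hk0
      exact hne hk0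
  obtain ⟨j, hj⟩ : ∃ j, k = j + 1 := ⟨k - 1, by omega⟩
  have hj0 : Ring.jacobson E ^ j ≠ 0 := Nat.find_min hex (by omega)
  obtain ⟨x, hx, hx0⟩ : ∃ x ∈ Ring.jacobson E ^ j, x ≠ 0 := by
    by_contra hcon
    push Not at hcon
    apply hj0
    exact (Submodule.eq_bot_iff _).2 hcon
  apply hx0
  apply h
  intro a
  have h1 : x * a * x ∈ Ring.jacobson E ^ j * Ring.jacobson E ^ j := by
    rw [mul_assoc]
    exact Ideal.mul_mem_mul hx (Ideal.mul_mem_left _ _ hx)
  rw [← Ideal.IsTwoSided.pow_add] at h1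
  have h2 : j + j = k + (j - 1) := by omega
  rw [h2, Ideal.IsTwoSided.pow_add, hk0, zero_mul] at h1
  exact h1

variable {A : Type*} [Ring A]

/-- The ring of fixed points. -/
def fixRing (τ : A ≃+* A) : Subring A where
  carrier := {a | τ a = a}
  mul_mem' := by intro a b ha hb; change τ (a * b) = a * b; rw [map_mul, ha, hb]
  one_mem' := map_one τ
  add_mem' := by intro a b ha hb; change τ (a + b) = a + b; rw [map_add, ha, hb]
  zero_mem' := map_zero τ
  neg_mem' := by intro a ha; change τ (-a) = -a; rw [map_neg, ha]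

theorem mem_fixRing {τ : A ≃+* A} {a : A} : a ∈ fixRing τ ↔ τ a = a := Iff.rfl

/-- **The fixed ring of an involutory automorphism of a semisimple ring is semisimple.** -/
theorem isSemisimpleRing_fixed [Finite A] [IsSemisimpleRing A] (τ : A ≃+* A) (hτ : ∀ a, τ (τ a) = a)
    (h2 : IsUnit (2 : A)) : IsSemisimpleRing ↥(fixRing τ) := by
  have hsp : ∀ x : A, (∀ a, x * a * x = 0) → x = 0 := by
    intro x hx
    obtain ⟨a, ha⟩ := exists_regular x
    rw [← ha]; exact hx a
  apply isSemisimpleRing_of_semiprime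
  intro x hx
  apply Subtype.ext
  change (x : A) = 0
  have hxf : ∀ a : A, τ a = a → (x : A) * a * x = 0 := fun a ha =>
    congrArg Subtype.val (hx ⟨a, ha⟩)
  have hτx : τ (x : A) = x := x.2
  -- the odd part
  have hodd : ∀ a : A, τ a = -a → (x : A) * a * x = 0 := by
    intro a ha
    apply hsp
    have key : ∀ b : A, (τ b = b ∨ τ b = -b) → ((x : A) * a * x) * b * ((x : A) * a * x) = 0 := by
      rintro b (hb | hb)
      · have h1 := hxf b hb
        calc ((x : A) * a * x) * b * ((x : A) * a * x) = (x : A) * a * ((x : A) * b * x) * a * x := by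
              simp only [mul_assoc]
          _ = 0 := by rw [h1]; simp
      · have h1 := hxf (a * x * b) (by rw [map_mul, map_mul, ha, hb, hτx]; simp)
        calc ((x : A) * a * x) * b * ((x : A) * a * x) = ((x : A) * (a * x * b) * x) * a * x := by
              simp only [mul_assoc]
          _ = 0 := by rw [h1]; simp
    intro b
    obtain ⟨u, hu⟩ := h2
    -- `2 b = (b + τ b) + (b - τ b)`
    have h3 := key (b + τ b) (Or.inl (by rw [map_add, hτ, add_comm]))
    have h4 := key (b - τ b) (Or.inr (by rw [map_sub, hτ]; abel))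
    have h5 : ((x : A) * a * x) * (2 * b) * ((x : A) * a * x) = 0 := by
      have h6 : (2 : A) * b = (b + τ b) + (b - τ b) := by rw [two_mul]; abel
      rw [h6, mul_add, add_mul, h3, h4, add_zero]
    have hc : ∀ z : A, z * 2 = 2 * z := fun z => by rw [mul_two, two_mul]
    have h7 : (2 : A) * (((x : A) * a * x) * b * ((x : A) * a * x)) = 0 := by
      rw [← h5]
      calc (2 : A) * (((x : A) * a * x) * b * ((x : A) * a * x))
          = (2 * ((x : A) * a * x)) * b * ((x : A) * a * x) := by simp only [mul_assoc]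
        _ = (((x : A) * a * x) * 2) * b * ((x : A) * a * x) := by rw [hc]
        _ = _ := by simp only [mul_assoc]
    rw [← hu] at h7
    exact (Units.mul_right_eq_zero u).1 h7
  apply hsp
  intro a
  have h3 := hxf (a + τ a) (by rw [map_add, hτ, add_comm])
  have h4 := hodd (a - τ a) (by rw [map_sub, hτ]; abel)
  have h5 : (x : A) * (2 * a) * x = 0 := by
    have h6 : (2 : A) * a = (a + τ a) + (a - τ a) := by rw [two_mul]; abel
    rw [h6, mul_add, add_mul, h3, h4, add_zero]
  have hc : ∀ z : A, z * 2 = 2 * z := fun z => by rw [mul_two, two_mul]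
  have h7 : (2 : A) * ((x : A) * a * x) = 0 := by
    rw [← h5]
    calc (2 : A) * ((x : A) * a * x) = (2 * (x : A)) * a * x := by simp only [mul_assoc]
      _ = ((x : A) * 2) * a * x := by rw [hc]
      _ = _ := by simp only [mul_assoc]
  obtain ⟨u, hu⟩ := h2
  rw [← hu] at h7
  exact (Units.mul_right_eq_zero u).1 h7

end Cfsg.Agent.H340
end

-- part: H340/FixUnit
section
/-!
# Fixed points of involutory ring automorphisms: composition factors (helper340)

* `cf_fixU` : `{u ∈ Aˣ | τ u = u}`;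
* `cf_fixUnitary` : `{u ∈ U s | τ u = u}`;
* `CF.fixed_of_lift` : fixed points modulo a central subgroup.
-/

set_option autoImplicit false
set_option linter.unusedSectionVars false

namespace Cfsg.Agent.H340

open Subgroup Cfsg Cfsg.Agent.BpLin

universe u v w

variable {P : ∀ (S : Type u) [Group S], Prop} {r : ℕ}

section Ring

variable {A : Type} [Ring A]

/-- The fixed units. -/
def fixU (τ : A ≃+* A) : Subgroup Aˣ where
  carrier := {u | τ (u : A) = u}
  mul_mem' := by
    intro a b ha hb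
    change τ ((a * b : Aˣ) : A) = _
    rw [Units.val_mul, map_mul, show τ (a : A) = a from ha, show τ (b : A) = b from hb]
  one_mem' := map_one τ
  inv_mem' := by
    intro a ha
    have ha' : τ (a : A) = a := ha
    change τ ((a⁻¹ : Aˣ) : A) = ((a⁻¹ : Aˣ) : A)
    have h1 : (a : A) * τ ((a⁻¹ : Aˣ) : A) = 1 := by
      conv_lhs => rw [← ha']
      rw [← map_mul, Units.mul_inv, map_one]
    calc τ ((a⁻¹ : Aˣ) : A) = ((a⁻¹ : Aˣ) : A) * ((a : A) * τ ((a⁻¹ : Aˣ) : A)) := by
          rw [← mul_assoc, Units.inv_mul, one_mul]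
      _ = _ := by rw [h1, mul_one]

theorem mem_fixU {τ : A ≃+* A} {u : Aˣ} : u ∈ fixU τ ↔ τ (u : A) = u := Iff.rfl

/-- The units of the fixed ring. -/
noncomputable def fixUEquiv (τ : A ≃+* A) : (↥(fixRing τ))ˣ ≃* ↥(fixU τ) where
  toFun u := ⟨Units.map (fixRing τ).subtype.toMonoidHom u, (u : ↥(fixRing τ)).2⟩
  invFun v := ⟨⟨((v : Aˣ) : A), v.2⟩, ⟨(((v : Aˣ)⁻¹ : Aˣ) : A), (fixU τ).inv_mem v.2⟩,
    Subtype.ext (Units.mul_inv _), Subtype.ext (Units.inv_mul _)⟩
  left_inv u := by apply Units.ext; apply Subtype.ext; rfl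
  right_inv v := by apply Subtype.ext; apply Units.ext; rfl
  map_mul' a b := by apply Subtype.ext; exact map_mul _ _ _

theorem charP_subring (E : Subring A) [CharP A r] : CharP ↥E r :=
  ⟨fun x => by
    rw [← CharP.cast_eq_zero_iff A r x]
    constructor
    · intro h
      have := congrArg Subtype.val h
      simpa only [_root_.SubringClass.coe_natCast, _root_.ZeroMemClass.coe_zero] using this
    · intro h
      apply Subtype.ext
      simpa only [_root_.SubringClass.coe_natCast, _root_.ZeroMemClass.coe_zero] using h⟩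

theorem isUnit_two [CharP A r] (hr : r.Prime) (hr2 : r ≠ 2) : IsUnit (2 : A) := by
  have hodd : Odd r := hr.odd_of_ne_two hr2
  obtain ⟨k, hk⟩ := hodd
  have h0 : ((r : ℕ) : A) = 0 := CharP.cast_eq_zero A r
  rw [hk] at h0
  push_cast at h0
  have h1 : (2 : A) * (-(k : A)) = 1 := by
    rw [mul_neg, neg_eq_iff_add_eq_zero, add_comm] 
    rw [add_comm]; exact h0
  have h2 : (-(k : A)) * 2 = 1 := by
    rw [← h1, neg_mul, mul_neg, mul_two, two_mul]
  exact ⟨⟨2, -(k : A), h1, h2⟩, rfl⟩

theorem cf_fixU (hr : r.Prime) (hr2 : r ≠ 2) (hB : Base r P) [Finite A] [IsSemisimpleRing A] [CharP A r]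
    (τ : A ≃+* A) (hτ : ∀ a, τ (τ a) = a) : CF P ↥(fixU τ) := by
  have h1 : IsSemisimpleRing ↥(fixRing τ) := isSemisimpleRing_fixed τ hτ (isUnit_two hr hr2)
  have h2 : CharP ↥(fixRing τ) r := charP_subring _
  exact (cf_units hr hB ↥(fixRing τ)).congr (fixUEquiv τ)

/-- The involution of the fixed ring. -/
def fixInv (τ : A ≃+* A) (s : RInv A) (hs : ∀ a, τ (s a) = s (τ a)) : RInv ↥(fixRing τ) where
  toFun a := ⟨s a, by
    change τ (s a) = s a
    rw [hs, show τ (a : A) = a from a.2]⟩
  map_add' a b := Subtype.ext (s.add _ _)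
  map_mul' a b := Subtype.ext (s.mul _ _)
  invol' a := Subtype.ext (s.inv _)

theorem cf_fixUnitary (hr : r.Prime) (hr2 : r ≠ 2) (hB : Base r P) [Finite A] [IsSemisimpleRing A] [CharP A r]
    (τ : A ≃+* A) (hτ : ∀ a, τ (τ a) = a) (s : RInv A) (hs : ∀ a, τ (s a) = s (τ a)) :
    CF P ↥(s.U ⊓ fixU τ) := by
  have h1 : IsSemisimpleRing ↥(fixRing τ) := isSemisimpleRing_fixed τ hτ (isUnit_two hr hr2)
  have h2 : CharP ↥(fixRing τ) r := charP_subring _
  have h3 := cf_unitary hr hr2 hB (fixInv τ s hs)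
  have h4 : ((fixInv τ s hs).U.map ((fixU τ).subtype.comp (fixUEquiv τ).toMonoidHom)) = s.U ⊓ fixU τ := by
    ext u
    constructor
    · rintro ⟨v, hv, rfl⟩
      have h5 : (v : ↥(fixRing τ)) * (fixInv τ s hs) v = 1 := hv
      exact ⟨congrArg Subtype.val h5, (fixUEquiv τ v).2⟩
    · rintro ⟨hu, hu'⟩
      refine ⟨(fixUEquiv τ).symm ⟨u, hu'⟩, ?_, ?_⟩
      · exact Subtype.ext hu
      · change ((fixUEquiv τ ((fixUEquiv τ).symm ⟨u, hu'⟩) : ↥(fixU τ)) : Aˣ) = u
        rw [MulEquiv.apply_symm_apply]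
  have hinj : Function.Injective ((fixU τ).subtype.comp (fixUEquiv τ).toMonoidHom) :=
    (fixU τ).subtype_injective.comp (fixUEquiv τ).injective
  exact h3.congr (((fixInv τ s hs).U.equivMapOfInjective _ hinj).trans (MulEquiv.subgroupCongr h4))

end Ring

section Lift

variable {M : Type v} [Group M] {K : Type w} [Group K]

/-- **Fixed points modulo a central subgroup.** -/
theorem CF.fixed_of_lift (π : M →* K) (hπ : Function.Surjective π) (hc : π.ker ≤ center M)
    (σ : MulAut M) (α : MulAut K) (h : ∀ m, π (σ m) = α (π m)) (hF : CF P ↥(fixedSubgroup σ)) :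
    CF P ↥(fixedSubgroup α) := by
  let D : Subgroup M := (fixedSubgroup α).comap π
  have hD : ∀ m, m ∈ D ↔ π (σ m) = π m := fun m => by rw [h]; exact Iff.rfl
  have hk : ∀ m ∈ D, σ m * m⁻¹ ∈ π.ker := fun m hm => by
    rw [MonoidHom.mem_ker, map_mul, map_inv, (hD m).1 hm, mul_inv_cancel]
  have hcen : ∀ m ∈ D, ∀ x, x * (σ m * m⁻¹) = (σ m * m⁻¹) * x := fun m hm x =>
    mem_center_iff.1 (hc (hk m hm)) x
  let f : ↥D →* ↥(center M) :=
    { toFun := fun m => ⟨σ (m : M) * (m : M)⁻¹, hc (hk m m.2)⟩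
      map_one' := Subtype.ext (by
        change σ ((1 : ↥D) : M) * ((1 : ↥D) : M)⁻¹ = 1
        rw [OneMemClass.coe_one, map_one, inv_one, mul_one])
      map_mul' := fun a b => Subtype.ext (by
        change σ ((a * b : ↥D) : M) * ((a * b : ↥D) : M)⁻¹ = σ (a : M) * (a : M)⁻¹ * (σ (b : M) * (b : M)⁻¹)
        rw [Subgroup.coe_mul, map_mul, mul_inv_rev]
        have h1 := hcen b b.2 (a : M)⁻¹
        calc σ (a : M) * σ (b : M) * ((b : M)⁻¹ * (a : M)⁻¹)
            = σ (a : M) * ((σ (b : M) * (b : M)⁻¹) * (a : M)⁻¹) := by group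
          _ = σ (a : M) * ((a : M)⁻¹ * (σ (b : M) * (b : M)⁻¹)) := by rw [h1]
          _ = _ := by group) }
  have hf : f.ker.map D.subtype = fixedSubgroup σ := by
    ext m
    constructor
    · rintro ⟨x, hx, rfl⟩
      have h1 : σ (x : M) * (x : M)⁻¹ = 1 := congrArg Subtype.val hx
      exact mul_inv_eq_one.1 h1
    · intro hm
      have hm' : σ m = m := hm
      refine ⟨⟨m, (hD m).2 (by rw [hm'])⟩, ?_, rfl⟩
      exact Subtype.ext (mul_inv_eq_one.2 hm')
  have h1 : CF P ↥D := by
    refine CF.of_ext_range f ?_ (CF.of_solvable (Group.isSolvable_of_comm fun a b => ?_))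
    swap
    · exact Subtype.ext (Subtype.ext ((mem_center_iff.1 b.1.2 _)))
    exact hF.congr ((f.ker.equivMapOfInjective _ D.subtype_injective).trans (MulEquiv.subgroupCongr hf)).symm
  let g : ↥D →* ↥(fixedSubgroup α) := (π.comp D.subtype).codRestrict _ (fun m => m.2)
  refine h1.of_surjective g ?_
  rintro ⟨y, hy⟩
  obtain ⟨m, rfl⟩ := hπ y
  exact ⟨⟨m, hy⟩, rfl⟩

/-- A subgroup of fixed points which embeds as a normal subgroup in a good group. -/
theorem CF.fixed_of_normal {X : Type w} [Group X] (σ : MulAut M) (f : M →* X) (hf : Function.Injective f)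
    {C : Subgroup X} (hC : CF P ↥C) (h1 : ∀ m, σ m = m → f m ∈ C)
    (h2 : ∀ c ∈ C, ∀ m, σ m = m → ∃ m', σ m' = m' ∧ c * f m * c⁻¹ = f m') :
    CF P ↥(fixedSubgroup σ) := by
  let g : ↥(fixedSubgroup σ) →* ↥C := (f.comp (fixedSubgroup σ).subtype).codRestrict C (fun m => h1 m m.2)
  refine hC.of_injective g ?_ ?_
  · intro a b hab
    apply Subtype.ext
    apply hf
    exact congrArg Subtype.val hab
  · apply Subgroup.Normal.isSubnormal
    refine ⟨?_⟩
    rintro _ ⟨m, rfl⟩ c
    obtain ⟨m', hm', he⟩ := h2 c c.2 m m.2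
    exact ⟨⟨m', hm'⟩, Subtype.ext he.symm⟩

end Lift

end Cfsg.Agent.H340
end

-- part: H340/OddPSL
section
/-!
# `PSL_n(F)`, odd characteristic: composition factors of the centralizers of involutory automorphisms (helper340)
-/

set_option autoImplicit false
set_option linter.unusedSectionVars false

namespace Cfsg.Agent.H340

open Subgroup Cfsg Cfsg.Agent.BpLin Matrix
open Cfsg.Agent.ClassicalGeometry.AutPSL.Root Cfsg.Agent.ClassicalGeometry.AutPSL.Auto
  Cfsg.Agent.ClassicalGeometry.AutPSL.Main Cfsg.Agent.Schreier.ClassPSL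

universe u

section Alg

variable {F : Type} [Field F] {n : ℕ}

/-- the semilinear inner automorphism `T ↦ A σ(T) A⁻¹` -/
def semi (A : GL (Fin n) F) (σ : F ≃+* F) : Matrix (Fin n) (Fin n) F ≃+* Matrix (Fin n) (Fin n) F where
  toFun T := (A : Matrix (Fin n) (Fin n) F) * T.map (σ : F →+* F) * ((A⁻¹ : GL (Fin n) F) : Matrix (Fin n) (Fin n) F)
  invFun T := (((A⁻¹ : GL (Fin n) F) : Matrix (Fin n) (Fin n) F) * T * (A : Matrix (Fin n) (Fin n) F)).map
    (σ.symm : F →+* F)
  left_inv T := by
    change (((A⁻¹ : GL (Fin n) F) : Matrix (Fin n) (Fin n) F) * ((A : Matrix (Fin n) (Fin n) F) * T.map (σ : F →+* F) *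
      ((A⁻¹ : GL (Fin n) F) : Matrix (Fin n) (Fin n) F)) * (A : Matrix (Fin n) (Fin n) F)).map (σ.symm : F →+* F) = T
    have h1 : ((A⁻¹ : GL (Fin n) F) : Matrix (Fin n) (Fin n) F) * ((A : Matrix (Fin n) (Fin n) F) *
        T.map (σ : F →+* F) * ((A⁻¹ : GL (Fin n) F) : Matrix (Fin n) (Fin n) F)) * (A : Matrix (Fin n) (Fin n) F) =
        T.map (σ : F →+* F) := by
      rw [mul_assoc (A : Matrix (Fin n) (Fin n) F), ← mul_assoc ((A⁻¹ : GL (Fin n) F) : Matrix (Fin n) (Fin n) F),
        ← Units.val_mul, inv_mul_cancel, Units.val_one, one_mul, mul_assoc, ← Units.val_mul,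
        inv_mul_cancel, Units.val_one, mul_one]
    rw [h1]
    ext i j
    exact σ.symm_apply_apply _
  right_inv T := by
    change (A : Matrix (Fin n) (Fin n) F) * ((((A⁻¹ : GL (Fin n) F) : Matrix (Fin n) (Fin n) F) * T *
      (A : Matrix (Fin n) (Fin n) F)).map (σ.symm : F →+* F)).map (σ : F →+* F) *
      ((A⁻¹ : GL (Fin n) F) : Matrix (Fin n) (Fin n) F) = T
    have h1 : ((((A⁻¹ : GL (Fin n) F) : Matrix (Fin n) (Fin n) F) * T *
        (A : Matrix (Fin n) (Fin n) F)).map (σ.symm : F →+* F)).map (σ : F →+* F) =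
        ((A⁻¹ : GL (Fin n) F) : Matrix (Fin n) (Fin n) F) * T * (A : Matrix (Fin n) (Fin n) F) := by
      ext i j
      exact σ.apply_symm_apply _
    rw [h1, mul_assoc ((A⁻¹ : GL (Fin n) F) : Matrix (Fin n) (Fin n) F), ← mul_assoc (A : Matrix (Fin n) (Fin n) F),
      ← Units.val_mul, mul_inv_cancel, Units.val_one, one_mul, mul_assoc, ← Units.val_mul,
      mul_inv_cancel, Units.val_one, mul_one]
  map_mul' S T := by
    rw [Matrix.map_mul]
    simp only [mul_assoc]
    rw [← mul_assoc ((A⁻¹ : GL (Fin n) F) : Matrix (Fin n) (Fin n) F) (A : Matrix (Fin n) (Fin n) F),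
      ← Units.val_mul, inv_mul_cancel, Units.val_one, one_mul]
  map_add' S T := by
    have h1 : (S + T).map (σ : F →+* F) = S.map (σ : F →+* F) + T.map (σ : F →+* F) := by
      ext i j; exact map_add σ _ _
    rw [h1, mul_add, add_mul]

theorem semi_apply (A : GL (Fin n) F) (σ : F ≃+* F) (T : Matrix (Fin n) (Fin n) F) :
    semi A σ T = (A : Matrix (Fin n) (Fin n) F) * T.map (σ : F →+* F) *
      ((A⁻¹ : GL (Fin n) F) : Matrix (Fin n) (Fin n) F) := rfl

theorem conj_scalar {B : GL (Fin n) F} {c : F} (hB : scalar (Fin n) c = (B : Matrix (Fin n) (Fin n) F))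
    (T : Matrix (Fin n) (Fin n) F) :
    (B : Matrix (Fin n) (Fin n) F) * T * ((B⁻¹ : GL (Fin n) F) : Matrix (Fin n) (Fin n) F) = T := by
  have h1 : (B : Matrix (Fin n) (Fin n) F) * T = T * (B : Matrix (Fin n) (Fin n) F) := by
    rw [← hB]
    exact scalar_commute (n := Fin n) c (Commute.all c) T
  rw [h1, mul_assoc, ← Units.val_mul, mul_inv_cancel, Units.val_one, mul_one]

theorem coe_mg_inv (σ : F ≃+* F) (A : GL (Fin n) F) :
    ((A⁻¹ : GL (Fin n) F) : Matrix (Fin n) (Fin n) F).map (σ : F →+* F) =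
      (((mg σ A)⁻¹ : GL (Fin n) F) : Matrix (Fin n) (Fin n) F) := by
  rw [← coe_mg, map_inv]

theorem semi_semi {A : GL (Fin n) F} {σ : F ≃+* F} {c : F}
    (hA : scalar (Fin n) c = ((A * mg σ A : GL (Fin n) F) : Matrix (Fin n) (Fin n) F)) (hσ : σ * σ = 1)
    (T : Matrix (Fin n) (Fin n) F) : semi A σ (semi A σ T) = T := by
  rw [semi_apply, semi_apply, Matrix.map_mul, Matrix.map_mul, coe_mg_inv, ← coe_mg σ A]
  have h1 : (T.map (σ : F →+* F)).map (σ : F →+* F) = T := by
    ext i j
    exact RingEquiv.congr_fun hσ _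
  rw [h1]
  have h2 := conj_scalar hA T
  rw [_root_.mul_inv_rev, Units.val_mul, Units.val_mul] at h2
  rw [← mul_assoc, ← mul_assoc, mul_assoc _ _ ((A⁻¹ : GL (Fin n) F) : Matrix (Fin n) (Fin n) F)]
  exact h2

/-- the anti-automorphism `T ↦ A σ(T)ᵀ A⁻¹` -/
def antiInv (A : GL (Fin n) F) (σ : F ≃+* F) {c : F}
    (hA : scalar (Fin n) c = ((A * mg σ (ctr A) : GL (Fin n) F) : Matrix (Fin n) (Fin n) F)) (hσ : σ * σ = 1) :
    RInv (Matrix (Fin n) (Fin n) F) where
  toFun T := (A : Matrix (Fin n) (Fin n) F) * (T.map (σ : F →+* F))ᵀ *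
    ((A⁻¹ : GL (Fin n) F) : Matrix (Fin n) (Fin n) F)
  map_add' S T := by
    have h1 : (S + T).map (σ : F →+* F) = S.map (σ : F →+* F) + T.map (σ : F →+* F) := by
      ext i j; exact map_add σ _ _
    rw [h1, transpose_add, mul_add, add_mul]
  map_mul' S T := by
    rw [Matrix.map_mul, transpose_mul]
    simp only [mul_assoc]
    rw [← mul_assoc ((A⁻¹ : GL (Fin n) F) : Matrix (Fin n) (Fin n) F) (A : Matrix (Fin n) (Fin n) F),
      ← Units.val_mul, inv_mul_cancel, Units.val_one, one_mul]
  invol' T := by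
    have h3 : (Tᵀ.map (σ : F →+* F)).map (σ : F →+* F) = Tᵀ := by
      ext i j
      exact RingEquiv.congr_fun hσ _
    have h1 : (((A : Matrix (Fin n) (Fin n) F) * (T.map (σ : F →+* F))ᵀ *
        ((A⁻¹ : GL (Fin n) F) : Matrix (Fin n) (Fin n) F)).map (σ : F →+* F))ᵀ =
        ((mg σ (ctr A) : GL (Fin n) F) : Matrix (Fin n) (Fin n) F) * T *
          (((mg σ (ctr A))⁻¹ : GL (Fin n) F) : Matrix (Fin n) (Fin n) F) := by
      rw [Matrix.map_mul, Matrix.map_mul, ← transpose_map, h3, transpose_mul, transpose_mul, transpose_transpose,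
        ← mul_assoc]
      rw [← map_inv]
      rfl
    have h2 := conj_scalar hA T
    rw [_root_.mul_inv_rev, Units.val_mul, Units.val_mul] at h2
    rw [h1]
    rw [← mul_assoc, ← mul_assoc, mul_assoc _ _ ((A⁻¹ : GL (Fin n) F) : Matrix (Fin n) (Fin n) F)]
    exact h2

end Alg

section Main

variable {P : ∀ (S : Type u) [Group S], Prop} {r : ℕ} {F : Type} [Field F] [Finite F] [CharP F r] {n : ℕ}

theorem ker_pr : (pr : Matrix.SpecialLinearGroup (Fin n) F →* _).ker ≤ center _ := fun x hx =>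
  (pr_eq_one_iff x).1 hx

/-- **Linear and semilinear type.** -/
theorem cf_psl_linear (hr : r.Prime) (hr2 : r ≠ 2) (hB : Base r P) (hn : 2 ≤ n) (A : GL (Fin n) F)
    (σ : F ≃+* F) (h2 : lift (cj A * fld σ) * lift (cj A * fld σ) = 1) :
    CF P ↥(fixedSubgroup (lift (cj A * fld σ) : MulAut (Matrix.ProjectiveSpecialLinearGroup (Fin n) F))) := by
  have hnt : Nontrivial (Fin n) := Fin.nontrivial_iff_two_le.2 hn
  have hNZ : NeZero n := ⟨by omega⟩
  have h3 : lift (cj (A * mg σ A) * fld (σ * σ)) = lift (fld (1 : F ≃+* F)) := by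
    rw [map_one, map_one, ← h2, ← map_mul]
    congr 1
    rw [mul_assoc, ← mul_assoc (fld σ), fld_mul_cj, map_mul cj, map_mul fld]
    simp only [mul_assoc]
  obtain ⟨⟨c, hc⟩, hσ⟩ := injective_aux h3
  have hτ : ∀ T, semi A σ (semi A σ T) = T := semi_semi hc hσ
  have h4 : CF P ↥(fixU (semi A σ)) := cf_fixU hr hr2 hB (semi A σ) hτ
  have h5 : CF P ↥(fixedSubgroup (cj A * fld σ : MulAut (Matrix.SpecialLinearGroup (Fin n) F))) := by
    have hfix : ∀ m : Matrix.SpecialLinearGroup (Fin n) F, (cj A * fld σ : MulAut _) m = m ↔ semi A σ (m : Matrix _ _ F) = m :=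
      fun m => ⟨fun h => congrArg Subtype.val h, fun h => Subtype.ext h⟩
    refine CF.fixed_of_normal _ Matrix.SpecialLinearGroup.toGL Matrix.SpecialLinearGroup.toGL_injective h4
      (fun m hm => (hfix m).1 hm) fun c hc m hm => ⟨cj c m, ?_, ?_⟩
    · rw [hfix, coe_cj]
      have h6 : semi A σ ((c⁻¹ : GL (Fin n) F) : Matrix (Fin n) (Fin n) F) =
        ((c⁻¹ : GL (Fin n) F) : Matrix (Fin n) (Fin n) F) := (fixU (semi A σ)).inv_mem hc
      rw [map_mul, map_mul, h6, (hfix m).1 hm, show semi A σ (c : Matrix _ _ F) = c from hc]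
    · apply Units.ext
      rfl
  exact CF.fixed_of_lift pr pr_surjective ker_pr (cj A * fld σ) _ (fun m => (lift_pr _ m).symm) h5

/-- **Graph and graph-field type.** -/
theorem cf_psl_graph (hr : r.Prime) (hr2 : r ≠ 2) (hB : Base r P) (hn : 2 ≤ n) (A : GL (Fin n) F)
    (σ : F ≃+* F) (h2 : lift (cj A * fld σ * itr) * lift (cj A * fld σ * itr) = 1) :
    CF P ↥(fixedSubgroup (lift (cj A * fld σ * itr) :
      MulAut (Matrix.ProjectiveSpecialLinearGroup (Fin n) F))) := by
  have hnt : Nontrivial (Fin n) := Fin.nontrivial_iff_two_le.2 hn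
  have hNZ : NeZero n := ⟨by omega⟩
  have h3 : lift (cj (A * mg σ (ctr A)) * fld (σ * σ)) = lift (fld (1 : F ≃+* F)) := by
    rw [map_one, map_one, ← h2, ← map_mul]
    congr 1
    calc cj (A * mg σ (ctr A)) * fld (σ * σ) = cj A * (cj (mg σ (ctr A)) * fld σ) * fld σ := by
          rw [map_mul cj, map_mul fld]; simp only [mul_assoc]
      _ = cj A * (fld σ * cj (ctr A)) * fld σ * (itr * itr) := by rw [← fld_mul_cj, itr_mul_itr, mul_one]
      _ = cj A * fld σ * cj (ctr A) * (fld σ * itr) * itr := by simp only [mul_assoc]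
      _ = cj A * fld σ * (cj (ctr A) * itr) * fld σ * itr := by rw [← itr_mul_fld]; simp only [mul_assoc]
      _ = _ := by rw [← itr_mul_cj]; simp only [mul_assoc]
  obtain ⟨⟨c, hc⟩, hσ⟩ := injective_aux h3
  let s : RInv (Matrix (Fin n) (Fin n) F) := antiInv A σ hc hσ
  have h4 : CF P ↥s.U := cf_unitary hr hr2 hB s
  have h5 : CF P ↥(fixedSubgroup (cj A * fld σ * itr : MulAut (Matrix.SpecialLinearGroup (Fin n) F))) := by
    have hfix : ∀ m : Matrix.SpecialLinearGroup (Fin n) F, (cj A * fld σ * itr : MulAut _) m = m ↔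
        s ((m⁻¹ : Matrix.SpecialLinearGroup (Fin n) F) : Matrix _ _ F) = m :=
      fun m => ⟨fun h => congrArg Subtype.val h, fun h => Subtype.ext h⟩
    have hU : ∀ m : Matrix.SpecialLinearGroup (Fin n) F, (cj A * fld σ * itr : MulAut _) m = m ↔
        Matrix.SpecialLinearGroup.toGL m ∈ s.U := by
      intro m
      rw [hfix]
      have hmm : ((m⁻¹ : Matrix.SpecialLinearGroup (Fin n) F) : Matrix (Fin n) (Fin n) F) * (m : Matrix _ _ F) = 1 := by
        rw [← Matrix.SpecialLinearGroup.coe_mul, inv_mul_cancel, Matrix.SpecialLinearGroup.coe_one]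
      have hmm' : (m : Matrix (Fin n) (Fin n) F) *
          ((m⁻¹ : Matrix.SpecialLinearGroup (Fin n) F) : Matrix (Fin n) (Fin n) F) = 1 := by
        rw [← Matrix.SpecialLinearGroup.coe_mul, mul_inv_cancel, Matrix.SpecialLinearGroup.coe_one]
      have h7 : s ((m⁻¹ : Matrix.SpecialLinearGroup (Fin n) F) : Matrix _ _ F) * s (m : Matrix (Fin n) (Fin n) F) = 1 := by
        rw [← s.mul, hmm', s.one]
      constructor
      · intro h
        change (m : Matrix (Fin n) (Fin n) F) * s (m : Matrix (Fin n) (Fin n) F) = 1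
        rw [h] at h7
        exact h7
      · intro h
        have h8 : (m : Matrix (Fin n) (Fin n) F) * s (m : Matrix (Fin n) (Fin n) F) = 1 := h
        have h9 : s (m : Matrix (Fin n) (Fin n) F) * s ((m⁻¹ : Matrix.SpecialLinearGroup (Fin n) F) : Matrix _ _ F) = 1 := by
          rw [← s.mul, hmm, s.one]
        calc s ((m⁻¹ : Matrix.SpecialLinearGroup (Fin n) F) : Matrix _ _ F) =
            ((m : Matrix (Fin n) (Fin n) F) * s (m : Matrix (Fin n) (Fin n) F)) *
              s ((m⁻¹ : Matrix.SpecialLinearGroup (Fin n) F) : Matrix _ _ F) := by rw [h8, one_mul]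
          _ = _ := by rw [mul_assoc, h9, mul_one]
    refine CF.fixed_of_normal _ Matrix.SpecialLinearGroup.toGL Matrix.SpecialLinearGroup.toGL_injective h4
      (fun m hm => (hU m).1 hm) fun c hc m hm => ⟨cj c m, ?_, ?_⟩
    · rw [hU]
      have h6 : Matrix.SpecialLinearGroup.toGL (cj c m) = c * Matrix.SpecialLinearGroup.toGL m * c⁻¹ :=
        Units.ext rfl
      rw [h6]
      exact s.U.mul_mem (s.U.mul_mem hc ((hU m).1 hm)) (s.U.inv_mem hc)
    · apply Units.ext
      rfl
  exact CF.fixed_of_lift pr pr_surjective ker_pr (cj A * fld σ * itr) _ (fun m => (lift_pr _ m).symm) h5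

/-- **`PSL_n(F)`, odd characteristic.** -/
theorem cf_psl (hr : r.Prime) (hr2 : r ≠ 2) (hB : Base r P) (hn : 2 ≤ n)
    (α : MulAut (Matrix.ProjectiveSpecialLinearGroup (Fin n) F)) (h2 : α * α = 1) :
    CF P ↥(fixedSubgroup α) := by
  have := Fintype.ofFinite F
  have : Fact r.Prime := ⟨hr⟩
  rcases Nat.lt_or_ge n 3 with h | h
  · obtain rfl : n = 2 := by omega
    obtain ⟨A, σ, rfl⟩ := surj_two r α
    exact cf_psl_linear hr hr2 hB hn A σ h2
  · rcases surj_three r h α with ⟨A, σ, rfl⟩ | ⟨A, σ, rfl⟩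
    · exact cf_psl_linear hr hr2 hB hn A σ h2
    · exact cf_psl_graph hr hr2 hB hn A σ h2

end Main

end Cfsg.Agent.H340
end

-- part: H340/OddPSU
section
/-!
# `PSU_n(q)`, odd characteristic: composition factors of the centralizers of involutory automorphisms (helper340)
-/

set_option autoImplicit false
set_option linter.unusedSectionVars false

namespace Cfsg.Agent.H340

open Subgroup Cfsg Cfsg.Agent.BpLin Matrix
open Cfsg.Agent.LieClassical.HermBasic Cfsg.Agent.LieClassical.HermSiegel
open Cfsg.Agent.ClassicalGeometry.PSUAutCount (gm semiConj toAut gm_mul gm_one gm_mul_inv gm_inv_mul eq_of_toAut_eq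
  sc gm_sc_mul toAut_sc_mul herm_gm act_semiConj herm_semi gm_mulVec_inv gm_inv_mulVec gm_inj)
open Cfsg.Agent.Schreier.PSU (f₁ f₂ toAut_eq mapGU conj_field toAut_pr' gm_mapGU)
open Cfsg.Agent.CpAutU.Desc (toAut_mul toAut_one gm_mapGU')

universe u

section Herm

variable {F : Type} [Field F] [Fintype F] {n q : ℕ}

/-- the conjugate transpose -/
def ctI (n : ℕ) (hF : Fintype.card F = q ^ 2) : RInv (Matrix (Fin n) (Fin n) F) where
  toFun A := Matrix.of fun i j => (A j i) ^ q
  map_add' A B := by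
    ext i j
    exact add_pow_q hF _ _
  map_mul' A B := by
    ext i j
    simp only [Matrix.mul_apply, Matrix.of_apply]
    rw [sum_pow_q hF]
    apply Finset.sum_congr rfl
    intro k _
    rw [mul_pow, mul_comm]
  invol' A := by
    ext i j
    exact pow_q_pow_q hF _

theorem ctI_apply (hF : Fintype.card F = q ^ 2) (A : Matrix (Fin n) (Fin n) F) (i j : Fin n) :
    ctI n hF A i j = (A j i) ^ q := rfl

theorem herm_ctI (hF : Fintype.card F = q ^ 2) (A : Matrix (Fin n) (Fin n) F) (u v : Fin n → F) :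
    hermForm n F q (A *ᵥ u) v = hermForm n F q u (ctI n hF A *ᵥ v) := by
  simp only [herm_def, Matrix.mulVec, dotProduct, ctI_apply]
  simp_rw [sum_pow_q hF, mul_pow, pow_q_pow_q hF, Finset.sum_mul, Finset.mul_sum]
  rw [Finset.sum_comm]
  apply Finset.sum_congr rfl
  intro i _
  apply Finset.sum_congr rfl
  intro j _
  ring

/-- unitary matrices -/
theorem isom_iff (hF : Fintype.card F = q ^ 2) (A : Matrix (Fin n) (Fin n) F) :
    (∀ u v, hermForm n F q (A *ᵥ u) (A *ᵥ v) = hermForm n F q u v) ↔ ctI n hF A * A = 1 := by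
  constructor
  · intro h
    ext i j
    have h1 := h (Pi.single j 1) (Pi.single i 1)
    rw [herm_single_left, herm_def] at h1
    simp only [Matrix.mulVec_single_one, Matrix.col_apply, one_mul] at h1
    rw [Matrix.mul_apply]
    simp only [ctI_apply]
    have h2 : (Pi.single i 1 : Fin n → F) j ^ q = (1 : Matrix (Fin n) (Fin n) F) i j := by
      by_cases hij : i = j
      · subst hij
        rw [Pi.single_eq_same, one_pow, Matrix.one_apply_eq]
      · rw [Pi.single_eq_of_ne (Ne.symm hij), zero_pow_q hF, Matrix.one_apply_ne hij]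
    rw [← h2, ← h1]
    exact Finset.sum_congr rfl fun k _ => mul_comm _ _
  · intro h u v
    rw [herm_ctI hF, Matrix.mulVec_mulVec, h, Matrix.one_mulVec]

theorem mem_ctU (hF : Fintype.card F = q ^ 2) (g : GL (Fin n) F) :
    g ∈ (ctI n hF).U ↔ ∀ u v, hermForm n F q ((g : Matrix (Fin n) (Fin n) F) *ᵥ u)
      ((g : Matrix (Fin n) (Fin n) F) *ᵥ v) = hermForm n F q u v := by
  rw [isom_iff hF]
  change (g : Matrix (Fin n) (Fin n) F) * ctI n hF (g : Matrix (Fin n) (Fin n) F) = 1 ↔ _
  exact mul_eq_one_comm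

end Herm

section Main

variable {P : ∀ (S : Type u) [Group S], Prop} {r : ℕ} {F : Type} [Field F] [Fintype F] [CharP F r] {n q : ℕ}

/-- **`PSU_n(q)`, odd characteristic.** -/
theorem cf_psu (hr : r.Prime) (hr2 : r ≠ 2) (hB : Base r P) (hF : Fintype.card F = q ^ 2) (hn : 3 ≤ n)
    (h32 : ¬ (n = 3 ∧ q = 2)) (α : MulAut (PSU n F q)) (h2 : α * α = 1) :
    CF P ↥(fixedSubgroup α) := by
  obtain ⟨A, ρ, rfl⟩ := ClassicalGeometry.PSUAutMain.exists_toAut hF hn h32 α
  have hNZ : NeZero n := ⟨by omega⟩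
  rw [toAut_mul] at h2
  obtain ⟨hρ, c, -, hc⟩ := eq_of_toAut_eq (A := 1) (ρ := 1) hF hn ((toAut_one (F := F) (n := n) (q := q)).trans h2.symm)
  obtain ⟨B, hB'⟩ : ∃ B : GL (Fin n) F, B = (A : GL (Fin n) F) := ⟨_, rfl⟩
  have hBc : scalar (Fin n) c = ((B * mg ρ B : GL (Fin n) F) : Matrix (Fin n) (Fin n) F) := by
    rw [hB']
    change _ = gm (A * mapGU ρ A)
    rw [hc, gm_one, Matrix.scalar_apply, ← Matrix.smul_one_eq_diagonal]
  have hτ : ∀ T, semi B ρ (semi B ρ T) = T := semi_semi hBc hρ
  let s := ctI n hF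
  have hBU : B ∈ s.U := (mem_ctU hF B).2 (by rw [hB']; exact fun u v => herm_gm A u v)
  have hBs : s (B : Matrix (Fin n) (Fin n) F) = ((B⁻¹ : GL (Fin n) F) : Matrix (Fin n) (Fin n) F) := by
    have h3 : (B : Matrix (Fin n) (Fin n) F) * s (B : Matrix (Fin n) (Fin n) F) = 1 := hBU
    rw [← Units.mul_right_inj B, h3, Units.mul_inv]
  have hBs' : s ((B⁻¹ : GL (Fin n) F) : Matrix (Fin n) (Fin n) F) = (B : Matrix (Fin n) (Fin n) F) := by
    rw [← hBs, s.inv]
  have hs : ∀ T, semi B ρ (s T) = s (semi B ρ T) := by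
    intro T
    rw [semi_apply, semi_apply, s.mul, s.mul, hBs, hBs', ← mul_assoc]
    congr 2
    ext i j
    exact map_pow ρ _ _
  have h4 : CF P ↥(s.U ⊓ fixU (semi B ρ)) := cf_fixUnitary hr hr2 hB (semi B ρ) hτ s hs
  have hsemi : ∀ m : SU n F q, mat (semiConj A ρ m) = semi B ρ (mat m) := by
    intro m
    rw [hB']
    rfl
  have hfix : ∀ m : SU n F q, semiConj A ρ m = m ↔ semi B ρ (mat m) = mat m :=
    fun m => ⟨fun h => by rw [← hsemi, h], fun h => mat_injective (by rw [hsemi, h])⟩
  let f : SU n F q →* GL (Fin n) F := (Matrix.SpecialLinearGroup.toGL).comp (SU n F q).subtype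
  have hf : ∀ m : SU n F q, (f m : Matrix (Fin n) (Fin n) F) = mat m := fun _ => rfl
  have hfU : ∀ m : SU n F q, f m ∈ s.U := fun m => (mem_ctU hF _).2 m.2
  have h5 : CF P ↥(fixedSubgroup (semiConj A ρ : MulAut (SU n F q))) := by
    refine CF.fixed_of_normal _ f
      (Matrix.SpecialLinearGroup.toGL_injective.comp (SU n F q).subtype_injective) h4
      (fun m hm => ⟨hfU m, (hfix m).1 hm⟩) fun c hc m hm => ?_
    have hcm : c * f m * c⁻¹ ∈ s.U := s.U.mul_mem (s.U.mul_mem hc.1 (hfU m)) (s.U.inv_mem hc.1)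
    have hcf : c * f m * c⁻¹ ∈ fixU (semi B ρ) :=
      Subgroup.mul_mem _ (Subgroup.mul_mem _ hc.2 ((hfix m).1 hm)) (Subgroup.inv_mem _ hc.2)
    have hdet : ((c * f m * c⁻¹ : GL (Fin n) F) : Matrix (Fin n) (Fin n) F).det = 1 := by
      have h6 : ((f m : GL (Fin n) F) : Matrix (Fin n) (Fin n) F).det = 1 := det_mat m
      rw [Units.val_mul, Units.val_mul, Matrix.det_mul, Matrix.det_mul, h6, mul_one, ← Matrix.det_mul,
        ← Units.val_mul, mul_inv_cancel, Units.val_one, Matrix.det_one]
    let m' : SU n F q := ⟨⟨_, hdet⟩, (mem_ctU hF _).1 hcm⟩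
    have hm' : mat m' = ((c * f m * c⁻¹ : GL (Fin n) F) : Matrix (Fin n) (Fin n) F) := rfl
    refine ⟨m', (hfix m').2 ?_, ?_⟩
    · rw [hm']
      exact hcf
    · apply Units.ext
      rfl
  exact CF.fixed_of_lift (ClassicalGeometry.UnitAutBasic.pr n F q) ClassicalGeometry.UnitAutBasic.pr_surjective
    (fun x hx => (QuotientGroup.eq_one_iff x).1 hx) (semiConj A ρ) _ (fun m => rfl) h5

end Main

end Cfsg.Agent.H340
end

-- part: H340/OddForm
section
/-!
# Semisimilitudes with scalar square: composition factors of the fixed isometries (helper340)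

`cf_iso_CL` : `B` a nondegenerate symmetric or alternating form over a finite field of odd characteristic, `g` a
semisimilitude with `g²` scalar: `CF P` of the group of isometries of `B` which commute with `g`.
-/

set_option autoImplicit false
set_option linter.unusedSectionVars false

namespace Cfsg.Agent.H340

open Subgroup Cfsg Cfsg.Agent.BpLin Cfsg.Agent.BpCl
open Cfsg.Agent.ClassicalGeometry.SympAutSemi (perm_apply_inv_self perm_inv_apply_self)

universe u

section SemiEnd

variable {F V : Type} [Field F] [AddCommGroup V] [Module F V] {φ : F ≃+* F} {g : Equiv.Perm V}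

theorem semi_inv_add (hg : Semi φ g) (u v : V) : g⁻¹ (u + v) = g⁻¹ u + g⁻¹ v := by
  apply g.injective
  rw [hg.add, perm_apply_inv_self, perm_apply_inv_self, perm_apply_inv_self]

theorem semi_inv_smul (hg : Semi φ g) (a : F) (v : V) : g⁻¹ (a • v) = φ.symm a • g⁻¹ v := by
  apply g.injective
  rw [hg.smul, perm_apply_inv_self, perm_apply_inv_self, RingEquiv.apply_symm_apply]

/-- conjugation by a semilinear map -/
def semiEnd (hg : Semi φ g) : Module.End F V ≃+* Module.End F V where
  toFun T :=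
    { toFun := fun v => g (T (g⁻¹ v))
      map_add' := fun u v => by rw [semi_inv_add hg, map_add, hg.add]
      map_smul' := fun a v => by
        rw [semi_inv_smul hg, map_smul, hg.smul, RingEquiv.apply_symm_apply, RingHom.id_apply] }
  invFun T :=
    { toFun := fun v => g⁻¹ (T (g v))
      map_add' := fun u v => by rw [hg.add, map_add, semi_inv_add hg]
      map_smul' := fun a v => by
        rw [hg.smul, map_smul, semi_inv_smul hg, RingEquiv.symm_apply_apply, RingHom.id_apply] }
  left_inv T := by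
    apply LinearMap.ext
    intro v
    change g⁻¹ (g (T (g⁻¹ (g v)))) = T v
    rw [perm_inv_apply_self, perm_inv_apply_self]
  right_inv T := by
    apply LinearMap.ext
    intro v
    change g (g⁻¹ (T (g (g⁻¹ v)))) = T v
    rw [perm_apply_inv_self, perm_apply_inv_self]
  map_mul' S T := by
    apply LinearMap.ext
    intro v
    change g (S (T (g⁻¹ v))) = g (S (g⁻¹ (g (T (g⁻¹ v)))))
    rw [perm_inv_apply_self]
  map_add' S T := by
    apply LinearMap.ext
    intro v
    change g (S (g⁻¹ v) + T (g⁻¹ v)) = g (S (g⁻¹ v)) + g (T (g⁻¹ v))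
    rw [hg.add]

theorem semiEnd_apply (hg : Semi φ g) (T : Module.End F V) (v : V) : semiEnd hg T v = g (T (g⁻¹ v)) := rfl

theorem semiEnd_semiEnd (hg : Semi φ g) {a : F} (ha : a ≠ 0) (hga : ∀ v, g (g v) = a • v) (T : Module.End F V) :
    semiEnd hg (semiEnd hg T) = T := by
  apply LinearMap.ext
  intro v
  rw [semiEnd_apply, semiEnd_apply, hga]
  have h1 : g⁻¹ (g⁻¹ v) = a⁻¹ • v := by
    apply g.injective
    apply g.injective
    rw [perm_apply_inv_self, perm_apply_inv_self, hga, smul_smul, mul_inv_cancel₀ ha, one_smul]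
  rw [h1, map_smul, smul_smul, mul_inv_cancel₀ ha, one_smul]

end SemiEnd

section Adj

variable {F V : Type} [Field F] [AddCommGroup V] [Module F V] [Module.Finite F V]
  {B : LinearMap.BilinForm F V} {ε : F}

/-- the adjoint involution of `End V` -/
noncomputable def adjI (hnd : ∀ u, (∀ v, B u v = 0) → u = 0) (hε : ε * ε = 1) (hB : ∀ u v, B u v = ε * B v u) :
    RInv (Module.End F V) where
  toFun T := Free.adj hnd T
  map_add' T S := Free.adj_unique hnd fun u v => by
    rw [LinearMap.add_apply, map_add, LinearMap.add_apply, Free.adj_spec, Free.adj_spec, LinearMap.add_apply, map_add]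
  map_mul' T S := Free.adj_unique hnd fun u v => by
    change B (Free.adj hnd S (Free.adj hnd T u)) v = B u (T (S v))
    rw [Free.adj_spec, Free.adj_spec]
  invol' T := Free.adj_unique hnd fun u v => by
    rw [hB (T u) v, ← Free.adj_spec hnd T v u, hB (Free.adj hnd T v) u, ← mul_assoc, hε, one_mul]

theorem adjI_spec (hnd : ∀ u, (∀ v, B u v = 0) → u = 0) (hε : ε * ε = 1) (hB : ∀ u v, B u v = ε * B v u)
    (T : Module.End F V) (u v : V) : B (adjI hnd hε hB T u) v = B u (T v) := Free.adj_spec hnd T u v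

theorem mem_adjU (hnd : ∀ u, (∀ v, B u v = 0) → u = 0) (hε : ε * ε = 1) (hB : ∀ u v, B u v = ε * B v u)
    (T : (Module.End F V)ˣ) : T ∈ (adjI hnd hε hB).U ↔ ∀ u v, B ((T : Module.End F V) u) ((T : Module.End F V) v) = B u v := by
  have h0 : T ∈ (adjI hnd hε hB).U ↔ adjI hnd hε hB (T : Module.End F V) * (T : Module.End F V) = 1 := by
    change (T : Module.End F V) * adjI hnd hε hB (T : Module.End F V) = 1 ↔ _
    rw [Units.mul_eq_one_iff_inv_eq, Units.mul_eq_one_iff_eq_inv, eq_comm]
  rw [h0]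
  constructor
  · intro h u v
    have h1 := LinearMap.congr_fun h u
    change adjI hnd hε hB (T : Module.End F V) ((T : Module.End F V) u) = u at h1
    rw [← adjI_spec hnd hε hB, h1]
  · intro h
    apply LinearMap.ext
    intro u
    rw [← sub_eq_zero]
    apply hnd
    intro v
    change B (adjI hnd hε hB (T : Module.End F V) ((T : Module.End F V) u) - u) v = 0
    rw [map_sub, LinearMap.sub_apply, adjI_spec, h, sub_self]

theorem semiEnd_adjI (hnd : ∀ u, (∀ v, B u v = 0) → u = 0) (hε : ε * ε = 1) (hB : ∀ u v, B u v = ε * B v u)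
    {φ : F ≃+* F} {g : Equiv.Perm V} {l : F} (hg : SemiIso (fun u v => B u v) φ l g) (T : Module.End F V) :
    semiEnd hg.toSemi (adjI hnd hε hB T) = adjI hnd hε hB (semiEnd hg.toSemi T) := by
  symm
  refine Free.adj_unique hnd fun u v => ?_
  rw [semiEnd_apply, semiEnd_apply]
  have h1 : B (g (adjI hnd hε hB T (g⁻¹ u))) (g (g⁻¹ v)) = l * φ (B (adjI hnd hε hB T (g⁻¹ u)) (g⁻¹ v)) :=
    hg.form _ _
  have h2 : B (g (g⁻¹ u)) (g (T (g⁻¹ v))) = l * φ (B (g⁻¹ u) (T (g⁻¹ v))) := hg.form _ _
  rw [perm_apply_inv_self] at h1 h2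
  rw [h1, h2, adjI_spec]

end Adj

section Main

variable {P : ∀ (S : Type u) [Group S], Prop} {r : ℕ} {F V : Type} [Field F] [Finite F] [CharP F r] [AddCommGroup V]
  [Module F V] [Module.Finite F V] {B : LinearMap.BilinForm F V} {ε : F}

/-- **Isometries commuting with a semisimilitude of scalar square.** -/
theorem cf_iso_CL (hr : r.Prime) (hr2 : r ≠ 2) (hP : Base r P) [Nontrivial V]
    (hnd : ∀ u, (∀ v, B u v = 0) → u = 0) (hε : ε * ε = 1)
    (hB : ∀ u v, B u v = ε * B v u) {φ : F ≃+* F} {g : Equiv.Perm V} {l : F}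
    (hg : SemiIso (fun u v => B u v) φ l g) {a : F} (ha : a ≠ 0) (hga : ∀ v, g (g v) = a • v) :
    CF P ↥(Iso (fun u v => B u v) ⊓ CL F g) := by
  have hV : Finite V := Module.finite_of_finite F
  have hE : Finite (Module.End F V) := Finite.of_injective (fun T : Module.End F V => (T : V → V)) DFunLike.coe_injective
  have hss : IsSemisimpleRing (Module.End F V) := IsSemisimpleRing.moduleEnd F V
  have hch : CharP (Module.End F V) r :=
    charP_of_injective_algebraMap (algebraMap F (Module.End F V)).injective r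
  let s := adjI hnd hε hB
  let τ := semiEnd hg.toSemi
  have h1 : CF P ↥(s.U ⊓ fixU τ) := cf_fixUnitary hr hr2 hP τ (semiEnd_semiEnd hg.toSemi ha hga) s
    (semiEnd_adjI hnd hε hB hg)
  let e : LinearMap.GeneralLinearGroup F V ≃* (V ≃ₗ[F] V) := LinearMap.GeneralLinearGroup.generalLinearEquiv F V
  have h2 : (s.U ⊓ fixU τ).map e.toMonoidHom = Iso (fun u v => B u v) ⊓ CL F g := by
    ext h
    rw [Subgroup.mem_map_equiv]
    have he : ∀ v, ((e.symm h : LinearMap.GeneralLinearGroup F V) : Module.End F V) v = h v := fun _ => rfl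
    constructor
    · rintro ⟨h3, h4⟩
      refine ⟨fun u v => ?_, fun v => ?_⟩
      · have h5 := (mem_adjU hnd hε hB _).1 h3 u v
        exact h5
      · have h5 := LinearMap.congr_fun (mem_fixU.1 h4) (g v)
        rw [semiEnd_apply, he, he, perm_inv_apply_self] at h5
        exact h5.symm
    · rintro ⟨h3, h4⟩
      refine ⟨(mem_adjU hnd hε hB _).2 h3, mem_fixU.2 ?_⟩
      apply LinearMap.ext
      intro v
      rw [semiEnd_apply, he, he, ← mem_CL.1 h4, perm_apply_inv_self]
  rw [← h2]
  exact h1.congr ((s.U ⊓ fixU τ).equivMapOfInjective e.toMonoidHom e.injective)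

end Main

end Cfsg.Agent.H340
end

-- part: H340/OddRows
section
/-!
# `PSp`, `POmega` in odd characteristic: composition factors of the centralizers of involutory automorphisms (helper340)
-/

set_option autoImplicit false
set_option linter.unusedSectionVars false

namespace Cfsg.Agent.H340

open Subgroup Cfsg Cfsg.Agent.BpLin Cfsg.Agent.BpCl
open Cfsg.Agent.ClassicalGeometry.SympAutSemi (perm_apply_inv_self perm_inv_apply_self)

universe u

section General

variable {P : ∀ (S : Type u) [Group S], Prop}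

/-- The centralizers of all automorphisms of square one satisfy `CF P`. -/
def InvCF (P : ∀ (S : Type u) [Group S], Prop) (X : Type*) [Group X] : Prop :=
  ∀ x : MulAut X, x * x = 1 → CF P ↥(fixedSubgroup x)

theorem InvCF.congr {X Y : Type*} [Group X] [Group Y] (h : InvCF P X) (e : X ≃* Y) : InvCF P Y := by
  intro x hx
  let x' : MulAut X := MulAut.congr e.symm x
  have hx' : x' * x' = 1 := by
    rw [← map_mul, hx, map_one]
  have h1 := h x' hx'
  have h2 : ∀ k, x' k = e.symm (x (e k)) := fun _ => rfl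
  let ε : ↥(fixedSubgroup x') ≃* ↥(fixedSubgroup x) :=
    { toFun := fun k => ⟨e k, by
        have h3 : x' k.1 = k.1 := k.2
        rw [h2] at h3
        change x (e k) = e k
        have h4 := congrArg e h3
        rwa [e.apply_symm_apply] at h4⟩
      invFun := fun k => ⟨e.symm k, by
        have h3 : x k.1 = k.1 := k.2
        change x' (e.symm k) = e.symm k
        rw [h2, e.apply_symm_apply, h3]⟩
      left_inv := fun k => Subtype.ext (e.symm_apply_apply _)
      right_inv := fun k => Subtype.ext (e.apply_symm_apply _)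
      map_mul' := fun a b => Subtype.ext (map_mul e _ _) }
  exact h1.congr ε

/-- conjugate automorphisms -/
theorem CF.fixed_conj {X : Type*} [Group X] {α β γ : MulAut X} (h : α = β * γ * β⁻¹)
    (hg : CF P ↥(fixedSubgroup γ)) : CF P ↥(fixedSubgroup α) := by
  have h1 : (fixedSubgroup γ).map (β : X →* X) = fixedSubgroup α := by
    ext g
    constructor
    · rintro ⟨k, hk, rfl⟩
      have hk' : γ k = k := hk
      change α (β k) = β k
      rw [h, MulAut.mul_apply, MulAut.mul_apply, MulAut.inv_apply_self, hk']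
    · intro hgα
      have hg' : α g = g := hgα
      refine ⟨β⁻¹ g, ?_, MulAut.apply_inv_self _ β g⟩
      change γ (β⁻¹ g) = β⁻¹ g
      rw [h, MulAut.mul_apply, MulAut.mul_apply] at hg'
      conv_rhs => rw [← hg']
      rw [MulAut.inv_apply_self]
  exact hg.congr (((fixedSubgroup γ).equivMapOfInjective (β : X →* X) β.injective).trans
    (MulEquiv.subgroupCongr h1))

/-- An element of order two is conjugate into every subgroup of odd index. -/
theorem exists_conj_mem_of_index_odd {G : Type*} [Group G] {R : Subgroup G} (h0 : Odd R.index) {x : G}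
    (hx : x * x = 1) : ∃ y : G, y⁻¹ * x * y ∈ R := by
  classical
  have hR : R.FiniteIndex := ⟨fun h => by rw [h] at h0; exact absurd h0 (by decide)⟩
  have hfin : Finite (G ⧸ R) := Subgroup.finite_quotient_of_finiteIndex
  have hft := Fintype.ofFinite (G ⧸ R)
  have hcard : ¬ 2 ∣ Fintype.card (G ⧸ R) := by
    rw [← Nat.card_eq_fintype_card]
    change ¬ 2 ∣ R.index
    exact h0.not_two_dvd_nat
  let f : Function.End (G ⧸ R) := fun c => x • c
  have hf : Function.Involutive f := by
    intro c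
    change x • x • c = c
    rw [smul_smul, hx, one_smul]
  obtain ⟨c, hc⟩ : ∃ c : G ⧸ R, x • c = c := by
    by_contra hno
    push Not at hno
    apply hcard
    have h1 := Equiv.Perm.card_fixedPoints_modEq (p := 2) (n := 1) (f := f) (by
      rw [pow_one]; funext c; exact hf c)
    have h2 : IsEmpty (Function.fixedPoints f) := ⟨fun c => hno c.1 c.2⟩
    rw [Fintype.card_eq_zero (α := Function.fixedPoints f)] at h1
    exact (Nat.modEq_zero_iff_dvd).1 h1
  obtain ⟨y, rfl⟩ := QuotientGroup.mk_surjective c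
  refine ⟨y, ?_⟩
  have h3 : ((x * y : G) : G ⧸ R) = (y : G ⧸ R) := hc
  rw [eq_comm, QuotientGroup.eq] at h3
  rw [mul_assoc]
  exact h3

theorem two_ne_zero_of_charP {F : Type*} [Field F] {r : ℕ} [CharP F r] (hr : r.Prime) (hr2 : r ≠ 2) :
    (2 : F) ≠ 0 := by
  intro h
  have h3 : r ∣ 2 := (CharP.cast_eq_zero_iff F r 2).1 (by exact_mod_cast h)
  exact hr2 ((Nat.prime_dvd_prime_iff_eq hr Nat.prime_two).1 h3)

end General

section Symp

open Cfsg.Agent.ClassicalGeometry.SympBasic Cfsg.Agent.ClassicalGeometry.SympAutSemi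
  Cfsg.Agent.ClassicalGeometry.SympGamma

variable {P : ∀ (S : Type u) [Group S], Prop} {r : ℕ} {F : Type} [Field F] [Finite F] [CharP F r] {m : ℕ}

theorem cf_psp_of_mem (hr : r.Prime) (hr2 : r ≠ 2) (hP : Base r P) (hm : 1 ≤ m)
    {x : MulAut (PSp m F)} (hx : x * x = 1) (hx' : x ∈ (Psi m F).range) : CF P ↥(fixedSubgroup x) := by
  obtain ⟨g, rfl⟩ := hx'
  obtain ⟨φ, l, hl, hg⟩ := g.2
  have h1 : Psi m F (g ^ 2) = 1 := by rw [map_pow, pow_two, hx]
  obtain ⟨a, ha⟩ := exists_scal_of_Psi_eq_one hm (g ^ 2) h1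
  have hga : ∀ v, g.1 (g.1 v) = (a : F) • v := by
    intro v
    have h2 : (g ^ 2).1 v = g.1 (g.1 v) := by rw [pow_two]; rfl
    rw [← h2, ha, scal_apply]
  have hs : SemiIso (fun u v => sympBilin m F u v) φ l g.1 :=
    { add := hg.1, smul := hg.2.1, form := hg.2.2 }
  have hV : Nontrivial (Fin m ⊕ Fin m → F) := by
    refine ⟨⟨Pi.single (Sum.inl ⟨0, hm⟩) 1, 0, fun h => ?_⟩⟩
    have := congrFun h (Sum.inl ⟨0, hm⟩)
    rw [Pi.single_eq_same] at this
    exact one_ne_zero this
  have key : CF P ↥(Iso (fun u v => sympBilin m F u v) ⊓ CL F g.1) :=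
    cf_iso_CL (ε := -1) hr hr2 hP (fun u hu => eq_zero_of_forall_sympForm_right hu) (by ring)
      (fun u v => by
        have h3 : (sympBilin m F).IsAlt := fun v => sympForm_self v
        have h4 := h3.neg u v
        linear_combination -h4) hs a.ne_zero hga
  rw [← map_fixed] at key
  have h2 : CF P ↥(fixedSubgroup (conjHom m F g)) :=
    key.congr ((fixedSubgroup (conjHom m F g)).equivMapOfInjective _ spLin_injective).symm
  exact CF.fixed_of_lift (QuotientGroup.mk' _) (QuotientGroup.mk'_surjective _)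
    (fun y hy => (QuotientGroup.eq_one_iff y).1 hy) (conjHom m F g) _ (fun A => (Psi_mk g A).symm) h2

/-- **`PSp_2m(F)`, odd characteristic.** -/
theorem cf_psp (hr : r.Prime) (hr2 : r ≠ 2) (hP : Base r P) (hm : 2 ≤ m) : InvCF P (PSp m F) := by
  have := Fintype.ofFinite F
  intro x hx
  refine cf_psp_of_mem hr hr2 hP (by omega) hx ?_
  obtain ⟨g, hg⟩ := Cfsg.Agent.ClassicalGeometry.SympAutExists.exists_semi hm x
    (Cfsg.Agent.ClassicalGeometry.SympAutOddA.recog hm (Or.inr (two_ne_zero_of_charP hr hr2)) x)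
  exact ⟨g, hg⟩

end Symp

section Orth

open QuadraticMap Cfsg.Agent.LieClassical.OrthCore Cfsg.Agent.LieClassical.OrthTrans
  Cfsg.Agent.LieClassical.OrthSimple Cfsg.Agent.LieClassical.OrthForms
  Cfsg.Agent.ClassicalGeometry.OrthSemi Cfsg.Agent.ClassicalGeometry.OrthSemiForms
  Cfsg.Agent.ClassicalGeometry.SympAutSemi

variable {P : ∀ (S : Type u) [Group S], Prop} {r : ℕ} {F V : Type} [Field F] [Finite F] [CharP F r] [AddCommGroup V]
  [Module F V] [Module.Finite F V] {Q : QuadraticForm F V}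

theorem iso_polar (h2 : (2 : F) ≠ 0) : Iso (fun u _ => Q u) = Iso (fun u v => polarBilin Q u v) := by
  ext h
  constructor
  · intro hh u v
    have h3 : ∀ w, Q (h w) = Q w := fun w => hh w w
    change polar Q (h u) (h v) = polar Q u v
    unfold polar
    rw [← map_add, h3, h3, h3]
  · intro hh u _
    have h3 : polar Q (h u) (h u) = polar Q u u := hh u u
    rw [polar_self, polar_self] at h3
    have h4 : (2 : F) * Q (h u) = 2 * Q u := by
      simpa only [two_nsmul, two_mul, _root_.nsmul_eq_mul, _root_.Nat.cast_ofNat] using h3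
    exact mul_left_cancel₀ h2 h4

theorem semiIso_polar' {φ : F ≃+* F} {l : F} {g : Equiv.Perm V} (hg : SemiIso (fun u _ => Q u) φ l g) :
    SemiIso (fun u v => polarBilin Q u v) φ l g where
  add := hg.add
  smul := hg.smul
  form u v := by
    have h3 : ∀ w, Q (g w) = l * φ (Q w) := fun w => hg.form w w
    change polar Q (g u) (g v) = l * φ (polar Q u v)
    unfold polar
    rw [← hg.add, h3, h3, h3, map_sub, map_sub]
    ring

theorem cf_fixed_conjE (g : Gam Q) (h : CF P ↥(Iso (fun u _ => Q u) ⊓ CL F g.1)) :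
    CF P ↥(fixedSubgroup (conjE Q g)) := by
  let C := Iso (fun u _ => Q u) ⊓ CL F g.1
  have h3 : (fixedSubgroup (conjE Q g)).map (E Q).subtype = E Q ⊓ CL F g.1 := by
    ext h
    constructor
    · rintro ⟨k, hk, rfl⟩
      refine ⟨k.2, fun v => ?_⟩
      have h1 : conjE Q g k = k := hk
      have h2 : conjLin g k.1 = k.1 := congrArg Subtype.val h1
      have h3 := conjLin_apply' g k.1 v
      rw [h2] at h3
      exact h3
    · rintro ⟨h1, h2⟩
      refine ⟨⟨h, h1⟩, ?_, rfl⟩
      change conjE Q g ⟨h, h1⟩ = ⟨h, h1⟩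
      apply Subtype.ext
      rw [coe_conjE]
      apply LinearEquiv.ext
      intro v
      obtain ⟨w, rfl⟩ := g.1.surjective v
      rw [conjLin_apply']
      exact (h2 w).symm
  have hfix : ∀ m : ↥(E Q), conjE Q g m = m ↔ (m : V ≃ₗ[F] V) ∈ CL F g.1 := by
    intro m
    have h4 : m ∈ fixedSubgroup (conjE Q g) ↔ (m : V ≃ₗ[F] V) ∈ E Q ⊓ CL F g.1 := by
      rw [← h3]
      constructor
      · exact fun hm => ⟨m, hm, rfl⟩
      · rintro ⟨k, hk, hkm⟩
        rwa [← Subtype.ext hkm]
    exact h4.trans ⟨fun h => h.2, fun h => ⟨m.2, h⟩⟩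
  refine CF.fixed_of_normal _ (E Q).subtype (E Q).subtype_injective h
    (fun m hm => ⟨?_, (hfix m).1 hm⟩) fun c hc m hm => ?_
  · rw [Iso_eq_O]
    exact E_le_O m.2
  · have hcE : c * (m : V ≃ₗ[F] V) * c⁻¹ ∈ E Q := by
      refine conj_mem_E (Q := Q) ?_ m.2
      have := hc.1
      rwa [Iso_eq_O] at this
    refine ⟨⟨_, hcE⟩, (hfix _).2 ?_, rfl⟩
    exact (CL F g.1).mul_mem ((CL F g.1).mul_mem hc.2 ((hfix m).1 hm)) ((CL F g.1).inv_mem hc.2)

theorem cf_orth_of_mem (hr : r.Prime) (hr2 : r ≠ 2) (hP : Base r P) (hG : Good Q)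
    {x : MulAut (↥(E Q) ⧸ Subgroup.center ↥(E Q))} (hx : x * x = 1) (hx' : x ∈ (_root_.Cfsg.Agent.ClassicalGeometry.OrthSemi.Psi Q).range) :
    CF P ↥(fixedSubgroup x) := by
  obtain ⟨g, rfl⟩ := hx'
  obtain ⟨φ, l, hg⟩ := g.2
  have h1 : _root_.Cfsg.Agent.ClassicalGeometry.OrthSemi.Psi Q (g ^ 2) = 1 := by rw [map_pow, pow_two, hx]
  obtain ⟨a, ha, hga⟩ := exists_scalar_of_conjE hG (g ^ 2) (eq_one_of_quotAut (commutator_E hG) _ h1)
  have hs : SemiIso (fun u _ => Q u) φ l g.1 :=
    { add := hg.add, smul := hg.smul, form := fun u _ => hg.form u }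
  have hV : Nontrivial V := by
    obtain ⟨x, y, h⟩ := hG.exists_hyp
    exact ⟨⟨x, 0, h.left_ne⟩⟩
  have h2 : (2 : F) ≠ 0 := two_ne_zero_of_charP hr hr2
  have hnd : ∀ u, (∀ v, polarBilin Q u v = 0) → u = 0 := by
    intro u hu
    exact hG.nondeg u hu
  have hga' : ∀ v, g.1 (g.1 v) = a • v := by
    intro v
    have h3 := hga v
    rw [pow_two] at h3
    exact h3
  have key : CF P ↥(Iso (fun u v => polarBilin Q u v) ⊓ CL F g.1) :=
    cf_iso_CL (ε := 1) hr hr2 hP hnd (by ring) (fun u v => by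
      rw [one_mul]; exact polar_comm Q u v) (semiIso_polar' hs) ha hga'
  rw [← iso_polar h2] at key
  exact CF.fixed_of_lift (QuotientGroup.mk' _) (QuotientGroup.mk'_surjective _)
    (fun y hy => (QuotientGroup.eq_one_iff y).1 hy) (conjE Q g) _ (fun A => (_root_.Cfsg.Agent.ClassicalGeometry.OrthSemi.Psi_mk g A).symm) (cf_fixed_conjE g key)

theorem cf_orth_of_index (hr : r.Prime) (hr2 : r ≠ 2) (hP : Base r P) (hG : Good Q) (h0 : Odd (_root_.Cfsg.Agent.ClassicalGeometry.OrthSemi.Psi Q).range.index) :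
    InvCF P (↥(E Q) ⧸ Subgroup.center ↥(E Q)) := by
  intro x hx
  obtain ⟨y, hy⟩ := exists_conj_mem_of_index_odd h0 hx
  refine CF.fixed_conj (β := y) (γ := y⁻¹ * x * y) (by group) (cf_orth_of_mem hr hr2 hP hG ?_ hy)
  calc y⁻¹ * x * y * (y⁻¹ * x * y) = y⁻¹ * (x * x) * y := by group
    _ = 1 := by rw [hx]; group

end Orth

section OrthRows

open Cfsg.Agent.LieClassical.OrthCore Cfsg.Agent.LieClassical.OrthTrans
  Cfsg.Agent.LieClassical.OrthForms Cfsg.Agent.ClassicalGeometry.OrthSemi Cfsg.Agent.ClassicalGeometry.OrthSemiForms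

variable {P : ∀ (S : Type u) [Group S], Prop} {r : ℕ} {F : Type} [Field F] [Finite F] [CharP F r] {m : ℕ}

theorem cf_pomega {ι : Type} [Fintype ι] [DecidableEq ι] {Q : QuadraticForm F (ι → F)} (hr : r.Prime) (hr2 : r ≠ 2)
    (hP : Base r P) (hG : Good Q) (h0 : Odd (Psi Q).range.index) : InvCF P (Cfsg.POmega F ⇑Q) :=
  (cf_orth_of_index hr hr2 hP hG h0).congr (pomegaEquiv hG).symm

/-- **`POmega`, odd dimension, odd characteristic.** -/
theorem cf_odd (hr : r.Prime) (hr2 : r ≠ 2) (hP : Base r P) (hm : 3 ≤ m) :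
    InvCF P (Cfsg.POmega F (Cfsg.quadFormOdd m F)) := by
  have := Fintype.ofFinite F
  have h2 : (2 : F) ≠ 0 := two_ne_zero_of_charP hr hr2
  have hG := good_odd (F := F) (m := m) (by omega) h2
  have htop := MonoidHom.range_eq_top.2 (Cfsg.Agent.AutOrth.Final.surjective_odd hm h2)
  rw [← coe_oddForm]
  refine cf_pomega hr hr2 hP hG ?_
  rw [htop, Subgroup.index_top]
  exact odd_one

/-- **`POmega`, plus type, odd characteristic.** -/
theorem cf_plus (hr : r.Prime) (hr2 : r ≠ 2) (hP : Base r P) (hm : 4 ≤ m) :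
    InvCF P (Cfsg.POmega F (Cfsg.quadFormPlus m F)) := by
  have := Fintype.ofFinite F
  have hG := good_plus (F := F) (m := m) (by omega)
  rw [← coe_plusForm]
  refine cf_pomega hr hr2 hP hG ?_
  by_cases h4 : m = 4
  · subst h4
    rw [Cfsg.Agent.AutOrth.Final.index_plus_four]
    decide
  · have htop := MonoidHom.range_eq_top.2 (Cfsg.Agent.AutOrth.Final.surjective_plus (F := F) (m := m) (by omega))
    rw [htop, Subgroup.index_top]
    exact odd_one

/-- **`POmega`, minus type, odd characteristic.** -/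
theorem cf_minus (hr : r.Prime) (hr2 : r ≠ 2) (hP : Base r P) (hm : 4 ≤ m) {a b : F}
    (hab : ∀ z₁ z₂ : F, z₁ ^ 2 + a * z₁ * z₂ + b * z₂ ^ 2 = 0 → z₁ = 0 ∧ z₂ = 0) :
    InvCF P (Cfsg.POmega F (Cfsg.quadFormMinus (m - 1) F a b)) := by
  have := Fintype.ofFinite F
  have hG := good_minus (F := F) (m := m - 1) (by omega) a b hab
  have htop := MonoidHom.range_eq_top.2 (Cfsg.Agent.AutOrth.Final.surjective_minus (F := F) (m := m - 1) (by omega) hab)
  rw [← coe_minusForm]
  refine cf_pomega hr hr2 hP hG ?_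
  rw [htop, Subgroup.index_top]
  exact odd_one

end OrthRows

end Cfsg.Agent.H340
end

-- part: H340/OddLie
section
/-!
# Classical groups of odd characteristic: the composition factors of the centralizers of involutory automorphisms are
of Lie type in the same characteristic (helper340)
-/

set_option autoImplicit false
set_option linter.unusedSectionVars false

namespace Cfsg.Agent.H340

open Subgroup Cfsg Cfsg.Agent.BpLin Cfsg.Agent.BpCl QuadraticMap
open Cfsg.Agent.LieClassical.OrthCore Cfsg.Agent.LieClassical.OrthTrans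

universe u

theorem isLieTypeChar_congr {p : ℕ} {G H : Type*} [Group G] [Group H] (e : H ≃* G) (h : IsLieTypeChar p G) :
    IsLieTypeChar p H := by
  rcases h with h | h | h | h | h | h | h | h | h | h | h
  · obtain ⟨F, a, b, c, n, h1, h2, ⟨f⟩⟩ := h
    exact Or.inl ⟨F, a, b, c, n, h1, h2, ⟨e.trans f⟩⟩
  · obtain ⟨F, a, b, c, n, h1, h2, ⟨f⟩⟩ := h
    exact Or.inr (Or.inl ⟨F, a, b, c, n, h1, h2, ⟨e.trans f⟩⟩)
  · obtain ⟨F, a, b, c, n, q, h1, h2, h3, ⟨f⟩⟩ := h
    exact Or.inr (Or.inr (Or.inl ⟨F, a, b, c, n, q, h1, h2, h3, ⟨e.trans f⟩⟩))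
  · obtain ⟨F, a, b, c, n, h1, h2, ⟨f⟩⟩ := h
    exact Or.inr (Or.inr (Or.inr (Or.inl ⟨F, a, b, c, n, h1, h2, ⟨e.trans f⟩⟩)))
  · obtain ⟨F, a, b, c, n, h1, ⟨f⟩⟩ := h
    exact Or.inr (Or.inr (Or.inr (Or.inr (Or.inl ⟨F, a, b, c, n, h1, ⟨e.trans f⟩⟩))))
  · obtain ⟨F, a, b, c, n, x, y, h1, h2, ⟨f⟩⟩ := h
    exact Or.inr (Or.inr (Or.inr (Or.inr (Or.inr (Or.inl ⟨F, a, b, c, n, x, y, h1, h2, ⟨e.trans f⟩⟩)))))
  · obtain ⟨F, a, b, c, h⟩ := h
    refine Or.inr (Or.inr (Or.inr (Or.inr (Or.inr (Or.inr (Or.inl ⟨F, a, b, c, ?_⟩))))))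
    rcases h with ⟨h, ⟨f⟩⟩ | ⟨⟨f⟩⟩ | ⟨⟨f⟩⟩ | ⟨⟨f⟩⟩ | ⟨⟨f⟩⟩
    · exact Or.inl ⟨h, ⟨e.trans f⟩⟩
    · exact Or.inr (Or.inl ⟨e.trans f⟩)
    · exact Or.inr (Or.inr (Or.inl ⟨e.trans f⟩))
    · exact Or.inr (Or.inr (Or.inr (Or.inl ⟨e.trans f⟩)))
    · exact Or.inr (Or.inr (Or.inr (Or.inr ⟨e.trans f⟩)))
  · obtain ⟨F, a, b, c, q, hq, h⟩ := h
    refine Or.inr (Or.inr (Or.inr (Or.inr (Or.inr (Or.inr (Or.inr (Or.inl ⟨F, a, b, c, q, hq, ?_⟩)))))))
    rcases h with ⟨h, ⟨f⟩⟩ | ⟨h, ⟨f⟩⟩
    · exact Or.inl ⟨h, ⟨e.trans f⟩⟩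
    · exact Or.inr ⟨h, ⟨e.trans f⟩⟩
  · obtain ⟨h1, F, a, b, m, h2, h3, ⟨f⟩⟩ := h
    exact Or.inr (Or.inr (Or.inr (Or.inr (Or.inr (Or.inr (Or.inr (Or.inr (Or.inl
      ⟨h1, F, a, b, m, h2, h3, ⟨e.trans f⟩⟩))))))))
  · obtain ⟨h1, F, a, b, m, h2, h3, ⟨f⟩⟩ := h
    exact Or.inr (Or.inr (Or.inr (Or.inr (Or.inr (Or.inr (Or.inr (Or.inr (Or.inr (Or.inl
      ⟨h1, F, a, b, m, h2, h3, ⟨e.trans f⟩⟩)))))))))
  · obtain ⟨h1, F, a, b, m, h2, h3, ⟨f⟩⟩ := h
    exact Or.inr (Or.inr (Or.inr (Or.inr (Or.inr (Or.inr (Or.inr (Or.inr (Or.inr (Or.inr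
      ⟨h1, F, a, b, m, h2, h3, ⟨e.trans f⟩⟩)))))))))

section Sim

variable {F V : Type} [Field F] [AddCommGroup V] [Module F V] {Q : QuadraticForm F V}

/-- `E Q / Z(E Q)` for a form similar to `q`. -/
theorem nonempty_E_equiv (hG : Good Q) {ι : Type} [Fintype ι] [DecidableEq ι] {q : (ι → F) → F}
    (h : GenOrth.Sim Q q) : Nonempty ((E Q ⧸ center ↥(E Q)) ≃* Cfsg.POmega F q) := by
  obtain ⟨e⟩ := BpCl.nonempty_of_sim h
  have h1 : (commutator ↥(Cfsg.isometryGroup F q)).map e.toMonoidHom = commutator ↥(O Q) := by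
    rw [commutator_def, commutator_def, Subgroup.map_commutator,
      Subgroup.map_top_of_surjective _ e.surjective]
  have h2 : (commutator ↥(O Q)).map (O Q).subtype = E Q := by
    rw [commutator_def, Subgroup.map_commutator, ← MonoidHom.range_eq_map, Subgroup.range_subtype,
      hG.commutator_eq_E]
  let e1 : ↥(commutator ↥(Cfsg.isometryGroup F q)) ≃* ↥(_root_.commutator ↥(O Q)) :=
    ((commutator ↥(Cfsg.isometryGroup F q)).equivMapOfInjective e.toMonoidHom e.injective).trans
      (MulEquiv.subgroupCongr h1)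
  let e2 : ↥(_root_.commutator ↥(O Q)) ≃* ↥(E Q) :=
    ((commutator ↥(O Q)).equivMapOfInjective (O Q).subtype (O Q).subtype_injective).trans (MulEquiv.subgroupCongr h2)
  exact ⟨(Cfsg.Agent.LieClassical.OrthFinite.quotientCenterCongr (e1.trans e2)).symm⟩

end Sim

theorem card_ge_of_odd {F : Type*} [Field F] [Fintype F] {r : ℕ} [CharP F r] (hr : r.Prime) (hr2 : r ≠ 2) :
    Odd (Fintype.card F) ∧ 3 ≤ Fintype.card F := by
  have h2 : (2 : F) ≠ 0 := two_ne_zero_of_charP hr hr2
  have hne : ringChar F ≠ 2 := by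
    rw [ringChar.eq F r]; exact hr2
  have h1 : Odd (Fintype.card F) := by
    rw [Nat.odd_iff]
    exact FiniteField.odd_card_of_char_ne_two hne
  refine ⟨h1, ?_⟩
  have h3 : 2 ≤ Fintype.card F := Fintype.one_lt_card
  obtain ⟨k, hk⟩ := h1
  omega

theorem not_simple_sl_two_three {F : Type} [Field F] [Finite F] (h4 : ¬ 4 ≤ Nat.card F) :
    ¬ IsSimpleGroup (Matrix.ProjectiveSpecialLinearGroup (Fin 2) F) := by
  intro hs
  have h1 : Group.IsSolvable (Matrix.SpecialLinearGroup (Fin 2) F) := isSolvable_sl_two h4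
  have h2 : Group.IsSolvable (Matrix.ProjectiveSpecialLinearGroup (Fin 2) F) :=
    Group.isSolvable_of_surjective (f := QuotientGroup.mk' _) (QuotientGroup.mk'_surjective _)
  have h3 := (IsSimpleGroup.comm_iff_isSolvable (G := Matrix.ProjectiveSpecialLinearGroup (Fin 2) F)).2 h2
  have h01 : (0 : Fin 2) ≠ 1 := by decide
  have h5 := h3 (Cfsg.Agent.ClassicalGeometry.AutPSL.Root.pr (Matrix.SpecialLinearGroup.transvection h01 (1 : F)))
    (Cfsg.Agent.ClassicalGeometry.AutPSL.Root.pr (Matrix.SpecialLinearGroup.transvection h01.symm (1 : F)))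
  rw [← map_mul, ← map_mul] at h5
  obtain ⟨c, hc⟩ := Cfsg.Agent.ClassicalGeometry.AutPSL.Root.exists_smul_of_pr_eq h5
  rw [Matrix.SpecialLinearGroup.coe_mul, Matrix.SpecialLinearGroup.coe_mul] at hc
  have h6 : ∀ (i j : Fin 2) (hij : i ≠ j), (Matrix.SpecialLinearGroup.transvection hij (1 : F) : Matrix (Fin 2) (Fin 2) F) =
      1 + Matrix.single i j 1 := fun i j hij => rfl
  rw [h6, h6] at hc
  have h7 := congrFun (congrFun hc 0) 0
  have h8 := congrFun (congrFun hc 0) 1
  simp only [Matrix.mul_apply, Fin.sum_univ_two, Matrix.one_apply, Matrix.single_apply, _root_.Fin.isValue, _root_.Matrix.add_apply, _root_.one_ne_zero, _root_.false_and, _root_.not_false_eq_true, _root_.Matrix.single_apply_of_ne, _root_.add_zero, _root_.and_false, _root_.mul_ite, _root_.mul_one, _root_.MulZeroClass.mul_zero, _root_.Finset.sum_ite_eq', _root_.Finset.mem_univ, ↓ _root_.reduceIte, _root_.Matrix.smul_apply, _root_.true_and, _root_.and_true, _root_.zero_ne_one, _root_.zero_add, _root_.smul_eq_mul, _root_.ite_mul,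 _root_.one_mul, _root_.MulZeroClass.zero_mul, _root_.Finset.sum_ite_eq] at h7 h8
  rw [← h8] at h7
  simp at h7

/-- **`IsLieTypeChar r` holds for the classical groups of odd characteristic `r`.** -/
theorem base_lie {r : ℕ} (hr : r.Prime) (hr2 : r ≠ 2) : Base.{u} r (fun S _ => IsLieTypeChar r S) where
  psl F _ _ _ n hs S _ := by
    rintro ⟨e⟩
    have := Fintype.ofFinite F
    have hn : 2 ≤ n := by
      by_contra hn
      have : Subsingleton (Fin n) := by
        have : n = 0 ∨ n = 1 := by omega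
        rcases this with rfl | rfl <;> infer_instance
      have : Subsingleton (Matrix.SpecialLinearGroup (Fin n) F) := inferInstance
      have : Subsingleton (Matrix.ProjectiveSpecialLinearGroup (Fin n) F) :=
        (QuotientGroup.mk'_surjective _).subsingleton
      exact not_nontrivial _ hs.toNontrivial
    refine Or.inl ⟨F, inferInstance, inferInstance, inferInstance, n, hn, ?_, ⟨e⟩⟩
    rintro rfl
    by_contra h4
    exact not_simple_sl_two_three (F := F) (by rwa [Nat.card_eq_fintype_card]) hs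
  psu F _ _ _ n q hF hn hs S _ := by
    rintro ⟨e⟩
    have h1 := card_ge_of_odd (F := F) hr hr2
    refine Or.inr (Or.inr (Or.inl ⟨F, inferInstance, inferInstance, inferInstance, n, q, hF, hn, ?_, ⟨e⟩⟩))
    rintro ⟨-, rfl⟩
    rw [hF] at h1
    exact absurd h1.1 (by decide)
  psp F _ _ _ m hm hs S _ := by
    rintro ⟨e⟩
    have := Fintype.ofFinite F
    have h1 := card_ge_of_odd (F := F) hr hr2
    exact Or.inr (Or.inl ⟨F, inferInstance, inferInstance, inferInstance, m, hm, fun _ => h1.2, ⟨e⟩⟩)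
  alt h := absurd h hr2
  orth F V _ _ _ _ _ _ Q hQ hd hs S _ := by
    rintro ⟨e⟩
    have := Fintype.ofFinite F
    have h1 := card_ge_of_odd (F := F) hr hr2
    have hG := LieClassical.OrthFinite.good_of_finite hQ hd
    rcases GenOrth.normal_form (Module.finrank F V) hQ rfl with ⟨k, hk, hS⟩ | ⟨k, hk, hS⟩ | ⟨k, hk, a, b, hab, hS⟩
    · obtain ⟨f⟩ := nonempty_E_equiv hG hS
      rcases Nat.lt_or_ge k 3 with h | h
      · obtain rfl : k = 2 := by omega
        obtain ⟨f'⟩ := S0301.result (F := F) h1.1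
        exact Or.inr (Or.inl ⟨F, inferInstance, inferInstance, inferInstance, 2, le_rfl, fun _ => h1.2,
          ⟨(e.trans f).trans f'⟩⟩)
      · exact Or.inr (Or.inr (Or.inr (Or.inl ⟨F, inferInstance, inferInstance, inferInstance, k, h, h1.1,
          ⟨e.trans f⟩⟩)))
    · obtain ⟨f⟩ := nonempty_E_equiv hG hS
      rcases Nat.lt_or_ge k 4 with h | h
      · obtain rfl : k = 3 := by omega
        obtain ⟨f'⟩ := S0302.result (F := F)
        exact Or.inl ⟨F, inferInstance, inferInstance, inferInstance, 4, by omega, by omega, ⟨(e.trans f).trans f'⟩⟩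
      · exact Or.inr (Or.inr (Or.inr (Or.inr (Or.inl ⟨F, inferInstance, inferInstance, inferInstance, k, h,
          ⟨e.trans f⟩⟩))))
    · obtain ⟨f_1⟩ := nonempty_E_equiv hG hS
      rcases Nat.lt_or_ge k 3 with h | h
      · obtain rfl : k = 2 := by omega
        have : Fact r.Prime := ⟨hr⟩
        obtain ⟨f, hf⟩ : ∃ f : ℕ, Fintype.card F = r ^ f := by
          obtain ⟨n, -, hn⟩ := FiniteField.card F r
          exact ⟨n, hn⟩
        have hf0 : f ≠ 0 := by
          rintro rfl
          rw [pow_zero] at hf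
          omega
        have hfin : Finite (GaloisField r (2 * f)) := inferInstance
        have hft : Fintype (GaloisField r (2 * f)) := Fintype.ofFinite _
        have hK : Fintype.card (GaloisField r (2 * f)) = (Fintype.card F) ^ 2 := by
          rw [← Nat.card_eq_fintype_card, GaloisField.card r (2 * f) (by omega), hf, ← pow_mul, mul_comm]
        obtain ⟨f'⟩ := S0303.result (F := F) (K := GaloisField r (2 * f)) rfl hK a b hab
        have hch : CharP (GaloisField r (2 * f)) r := inferInstance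
        exact Or.inr (Or.inr (Or.inl ⟨GaloisField r (2 * f), inferInstance, hft, hch, 4, Fintype.card F, hK,
          by omega, by omega, ⟨(e.trans f_1).trans f'⟩⟩))
      · refine Or.inr (Or.inr (Or.inr (Or.inr (Or.inr (Or.inl ⟨F, inferInstance, inferInstance, inferInstance, k + 1,
          a, b, by omega, hab, ⟨?_⟩⟩)))))
        exact e.trans f_1

/-- `X` is a classical simple group of characteristic `p`. -/
def IsClassicalChar (p : ℕ) (X : Type*) [Group X] : Prop :=
  IsPSLChar p X ∨ IsPSpChar p X ∨ IsPSUChar p X ∨ IsPOmegaOddChar p X ∨ IsPOmegaPlusChar p X ∨ IsPOmegaMinusChar p X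

/-- **Classical groups of odd characteristic**: the nonabelian composition factors of the centralizers of involutory
automorphisms are of Lie type in the same characteristic. -/
theorem cf_of_classical {P : ∀ (S : Type u) [Group S], Prop} {r : ℕ} (hr : r.Prime) (hr2 : r ≠ 2) (hP : Base r P)
    {X : Type*} [Group X] (hX : IsClassicalChar r X) : InvCF P X := by
  rcases hX with h | h | h | h | h | h
  · obtain ⟨F, _, _, _, n, h1, h2, ⟨e⟩⟩ := h
    refine InvCF.congr ?_ e.symm
    exact fun α h => cf_psl hr hr2 hP h1 α h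
  · obtain ⟨F, _, _, _, m, h1, h2, ⟨e⟩⟩ := h
    exact (cf_psp hr hr2 hP h1).congr e.symm
  · obtain ⟨F, _, _, _, n, q, h1, h2, h3, ⟨e⟩⟩ := h
    refine InvCF.congr ?_ e.symm
    exact fun α h => cf_psu hr hr2 hP h1 h2 h3 α h
  · obtain ⟨F, _, _, _, m, h1, h2, ⟨e⟩⟩ := h
    exact (cf_odd hr hr2 hP h1).congr e.symm
  · obtain ⟨F, _, _, _, m, h1, ⟨e⟩⟩ := h
    exact (cf_plus hr hr2 hP h1).congr e.symm
  · obtain ⟨F, _, _, _, m, a, b, h1, h2, ⟨e⟩⟩ := h
    exact (cf_minus hr hr2 hP h1 h2).congr e.symm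

theorem cf_lie_of_classical {r : ℕ} (hr : r.Prime) (hr2 : r ≠ 2) {X : Type*} [Group X]
    (hX : IsClassicalChar r X) : InvCF.{u} (fun S _ => IsLieTypeChar r S) X :=
  cf_of_classical hr hr2 (base_lie hr hr2) hX

/-- The simple quotient of a subnormal subgroup with nonabelian simple central quotient. -/
theorem CF.component {P : ∀ (S : Type u) [Group S], Prop} {G : Type u} [Group G] (h : CF P G) {L : Subgroup G}
    (hL : L.IsSubnormal) (hs : IsSimpleGroup (↥L ⧸ center ↥L)) (hp : commutator ↥L = ⊤) : P (↥L ⧸ center ↥L) := by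
  refine h L hL _ ?_ (QuotientGroup.mk' _) (QuotientGroup.mk'_surjective _)
  by_contra hno
  push Not at hno
  have h1 : commutator (↥L ⧸ center ↥L) = ⊥ := by
    rw [commutator_def, Subgroup.commutator_eq_bot_iff_le_centralizer]
    intro a _ b _
    exact hno b a
  have h2 : commutator (↥L ⧸ center ↥L) = ⊤ := by
    have h3 := congrArg (Subgroup.map (QuotientGroup.mk' (center ↥L))) hp
    rw [commutator_def, Subgroup.map_commutator, Subgroup.map_top_of_surjective _ (QuotientGroup.mk'_surjective _)] at h3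
    exact h3
  rw [h1] at h2
  obtain ⟨x, hx⟩ := exists_ne (1 : ↥L ⧸ center ↥L)
  exact hx (by rw [← Subgroup.mem_bot, h2]; exact Subgroup.mem_top _)

end Cfsg.Agent.H340
end

private theorem dce_9673a093a785 : _root_.True := by
  try have : _root_.True := by simp only [_root_.Cfsg.Agent.H340.ctI.congr_simp]
  exact _root_.True.intro
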