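import Cfsg.Agent.H340.F4Two
import Cfsg.Agent.H364.LieNam
import Cfsg.Agent.H902.AltLie
import Cfsg.Agent.H902.Iso
import Cfsg.Agent.S1054
import Cfsg.Agent.S1062
import Cfsg.Agent.S1063
import Cfsg.Agent.S1064
import Cfsg.Agent.S1065
import Cfsg.Agent.S1066
import Cfsg.Agent.S1070
import Cfsg.Agent.H340.OddLie
import Cfsg.Agent.H284.SepOrd
import Cfsg.Agent.H284.AltComp
import Cfsg.Agent.H284.CharTwoComp
import Cfsg.Agent.H78.TeFour
import Cfsg.Agent.OddHalf.Known
import Cfsg.Agent.OrdDiv.Table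
import Cfsg.Agent.Prune
set_option linter.all false
prune_inst 0x7f00000000000000000000000000000000000000000000000000000000000000000000000000000000000000000000000000000000000000000000000000000000000000000000000000000000000000003fffffffffffffffffffffffffffbeffbdffffffff
open scoped Cfsg.Agent.FastGrp

-- part: H340/ExcId
section
/-!
# The five types `E₆, E₇, E₈, ²E₆, F₄` in characteristic two: identification by order (helper340)

* `Is τ n S` : `S` is the group of type `τ` over the field with `2 ^ n` elements;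
* `Is.real` : its order has the shape `sh τ`; `Is.inj` : the type and `n` are determined; `Is.lt` : `2 ^ 24 ≤ |S|`;
* `Is.not_hasRep` : central extensions by groups of odd order have no faithful representation of degree `≤ 248` in odd
  characteristic.
-/

set_option autoImplicit false

universe u v w

namespace Cfsg.Agent.H340.ExcId

open Cfsg Cfsg.Lie Cfsg.Agent.OrdDiv Cfsg.Agent.H902

/-- the types -/
inductive Ty
  | E6 | E7 | E8 | TE6 | F4
  deriving DecidableEq

/-- the names -/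
def nm : Ty → ℕ → Grp
  | .E6, q => .e6 q
  | .E7, q => .e7 q
  | .E8, q => .e8 q
  | .TE6, q => .te6 q
  | .F4, q => .f4 q

/-- the shapes of the orders -/
def sh : Ty → Art.Sh
  | .E6 => .E6
  | .E7 => .E7
  | .E8 => .E8
  | .TE6 => .TE6
  | .F4 => .F4

theorem sh_inj {τ τ' : Ty} (h : sh τ = sh τ') : τ = τ' := by
  cases τ <;> cases τ' <;> first | rfl | exact absurd h (by decide)

/-- `S` is the group of type `τ` over the field with `2 ^ n` elements. -/
def Is (τ : Ty) (n : ℕ) (S : Type u) [Group S] : Prop := OrdDiv.Real (nm τ (2 ^ n)) S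

theorem Is.congr {τ : Ty} {n : ℕ} {S : Type u} {S' : Type v} [Group S] [Group S'] (e : S ≃* S') (h : Is τ n S) :
    Is τ n S' := by
  cases τ <;> obtain ⟨F, i1, i2, hF, ⟨f⟩⟩ := h <;> exact ⟨F, i1, i2, hF, ⟨e.symm.trans f⟩⟩

theorem charTwo {F : Type u} [Field F] [Fintype F] {n : ℕ} (hF : Fintype.card F = 2 ^ n) : CharP F 2 := by
  obtain ⟨p, hp⟩ := CharP.exists F
  obtain ⟨m, hpp, hcard⟩ := FiniteField.card F p
  have h1 : p ∣ 2 ^ n := by
    rw [← hF, hcard]
    exact dvd_pow_self p m.ne_zero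
  rwa [(Nat.prime_dvd_prime_iff_eq hpp Nat.prime_two).1 (hpp.dvd_of_dvd_pow h1)] at hp

theorem isPP {n : ℕ} (hn : 1 ≤ n) : IsPrimePow (2 ^ n) := Nat.prime_two.isPrimePow.pow (by omega)

/-- the order -/
theorem Is.real {τ : Ty} {n : ℕ} (hn : 1 ≤ n) {S : Type u} [Group S] (h : Is τ n S) :
    Art.Real (sh τ) 2 n (Nat.card S) := by
  cases τ
  · obtain ⟨F, _, _, hF, ⟨e⟩⟩ := h
    refine ⟨Nat.prime_two, hn, trivial, ?_⟩
    rw [Nat.card_congr e.toEquiv]
    have h1 := S1063.result (F := F) hF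
    change Nat.gcd 3 (2 ^ n - 1) * _ = (2 ^ n) ^ 36 * (_ * _ * _ * _ * _ * _)
    rw [h1]
    ring
  · obtain ⟨F, _, _, hF, ⟨e⟩⟩ := h
    refine ⟨Nat.prime_two, hn, trivial, ?_⟩
    rw [Nat.card_congr e.toEquiv]
    have h1 := S1064.result (F := F) hF
    change Nat.gcd 2 (2 ^ n - 1) * _ = (2 ^ n) ^ 63 * (_ * _ * _ * _ * _ * _ * _)
    rw [h1]
    ring
  · obtain ⟨F, _, _, hF, ⟨e⟩⟩ := h
    refine ⟨Nat.prime_two, hn, trivial, ?_⟩
    rw [Nat.card_congr e.toEquiv]
    have h1 := S1065.result (F := F) hF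
    change 1 * _ = (2 ^ n) ^ 120 * (_ * _ * _ * _ * _ * _ * _ * _)
    rw [h1]
    ring
  · obtain ⟨F, _, _, hF, ⟨e⟩⟩ := h
    refine ⟨Nat.prime_two, hn, trivial, ?_⟩
    rw [Nat.card_congr e.toEquiv]
    have h1 := S1066.result (isPP hn) hF
    change Nat.gcd 3 (2 ^ n + 1) * _ = (2 ^ n) ^ 36 * (_ * _ * _ * _ * _ * _)
    rw [h1]
    ring
  · obtain ⟨F, _, _, hF, ⟨e⟩⟩ := h
    refine ⟨Nat.prime_two, hn, trivial, ?_⟩
    rw [Nat.card_congr e.toEquiv]
    have h1 := S1062.result (F := F) hF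
    change 1 * _ = (2 ^ n) ^ 24 * (_ * _ * _ * _)
    rw [h1]
    ring

theorem two_pow_dvd {τ : Ty} {n M : ℕ} (h : Art.Real (sh τ) 2 n M) : 2 ^ 24 ∣ M := by
  have h1 := h.P_self
  have h2 : Art.P 2 M ∣ M := Nat.ordProj_dvd M 2
  rw [h1] at h2
  refine (?_ : 2 ^ 24 ∣ _).trans h2
  rw [← pow_mul]
  apply Nat.pow_dvd_pow
  have h3 : 24 ≤ Art.NN (sh τ) := by cases τ <;> decide
  have h4 := h.hf
  nlinarith

theorem pos {τ : Ty} {n M : ℕ} (h : Art.Real (sh τ) 2 n M) : 2 ^ 24 ≤ M :=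
  Nat.le_of_dvd (Nat.pos_of_ne_zero h.M_ne) (two_pow_dvd h)

/-- the type and the field are determined by the order -/
theorem real_inj {τ : Ty} {n M : ℕ} (h : Art.Real (sh τ) 2 n M) {X : Art.Sh} {f : ℕ} (h' : Art.Real X 2 f M) :
    sh τ = X ∧ n = f := by
  rcases Art.same_char h h' with h1 | h1
  · exact h1
  · have := pos h
    rw [h1] at this
    norm_num at this

theorem Is.inj {τ τ' : Ty} {n n' : ℕ} (hn : 1 ≤ n) (hn' : 1 ≤ n') {S : Type u} [Group S] {S' : Type v} [Group S']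
    (h : Is τ n S) (h' : Is τ' n' S') (e : S ≃* S') : τ = τ' ∧ n = n' := by
  have h1 := h.real hn
  have h2 := h'.real hn'
  rw [← Nat.card_congr e.toEquiv] at h2
  obtain ⟨h3, h4⟩ := real_inj h1 h2
  exact ⟨sh_inj h3, h4⟩

theorem Is.lieTwo {τ : Ty} {n : ℕ} (hn : 1 ≤ n) {S : Type u} [Group S] (h : Is τ n S) : IsLieTypeChar 2 S := by
  have key : ∀ (F : Type) [Field F] [Fintype F], CharP F 2 →
      ((3 ≤ Fintype.card F ∧ Nonempty (S ≃* Lie.chevG2.group F)) ∨ Nonempty (S ≃* Lie.chevF4.group F) ∨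
      Nonempty (S ≃* Lie.chevE6.group F) ∨ Nonempty (S ≃* Lie.chevE7.group F) ∨ Nonempty (S ≃* Lie.chevE8.group F)) →
      IsLieTypeChar 2 S := fun F _ _ h1 h2 =>
    Or.inr (Or.inr (Or.inr (Or.inr (Or.inr (Or.inr (Or.inl ⟨F, inferInstance, inferInstance, h1, h2⟩))))))
  cases τ
  · obtain ⟨F, _, _, hF, e⟩ := h
    exact key F (charTwo hF) (Or.inr (Or.inr (Or.inl e)))
  · obtain ⟨F, _, _, hF, e⟩ := h
    exact key F (charTwo hF) (Or.inr (Or.inr (Or.inr (Or.inl e))))
  · obtain ⟨F, _, _, hF, e⟩ := h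
    exact key F (charTwo hF) (Or.inr (Or.inr (Or.inr (Or.inr e))))
  · obtain ⟨F, _, _, hF, e⟩ := h
    have hc : CharP F 2 := charTwo (n := n * 2) (by rw [hF, pow_mul])
    exact Or.inr (Or.inr (Or.inr (Or.inr (Or.inr (Or.inr (Or.inr (Or.inl ⟨F, inferInstance, inferInstance, hc, 2 ^ n,
      isPP hn, Or.inl ⟨hF, e⟩⟩)))))))
  · obtain ⟨F, _, _, hF, e⟩ := h
    exact key F (charTwo hF) (Or.inr (Or.inl e))

theorem Is.simple {τ : Ty} {n : ℕ} (hn : 1 ≤ n) {S : Type u} [Group S] (h : Is τ n S) :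
    IsSimpleGroup S ∧ ¬ IsMulCommutative S := by
  have key : ∀ (T : Type) [Group T], IsSimpleGroup T ∧ ¬ IsMulCommutative T → Nonempty (S ≃* T) →
      IsSimpleGroup S ∧ ¬ IsMulCommutative S := by
    intro T _ ⟨h1, h2⟩ ⟨e⟩
    refine ⟨e.isSimpleGroup, fun hc => h2 ⟨⟨fun a b => ?_⟩⟩⟩
    have h3 := hc.is_comm.comm (e.symm a) (e.symm b)
    rw [← map_mul, ← map_mul] at h3
    exact e.symm.injective h3
  cases τ
  · obtain ⟨F, _, _, hF, e⟩ := h
    exact key _ (S1054.result (F := F) chevE6 (by simp)) e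
  · obtain ⟨F, _, _, hF, e⟩ := h
    exact key _ (S1054.result (F := F) chevE7 (by simp)) e
  · obtain ⟨F, _, _, hF, e⟩ := h
    exact key _ (S1054.result (F := F) chevE8 (by simp)) e
  · obtain ⟨F, _, _, hF, e⟩ := h
    exact key _ (S1070.result (isPP hn) hF) e
  · obtain ⟨F, _, _, hF, e⟩ := h
    exact key _ (S1054.result (F := F) chevF4 (by simp)) e

/-- **Degrees.** -/
theorem Is.not_hasRep {τ : Ty} {n : ℕ} (hn : 1 ≤ n) {S : Type u} [Group S] (h : Is τ n S) {L : Type v} [Group L]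
    [Finite L] (π : L →* S) (hπ : Function.Surjective π) (hc : π.ker ≤ Subgroup.center L)
    (ho : Odd (Nat.card π.ker)) : ¬ HasRep 248 L := by
  have key : ∀ (T : Type) [Group T], Big T → Nonempty (S ≃* T) → ¬ HasRep 248 L := by
    intro T _ hT ⟨e⟩ hL
    obtain ⟨U, hU, h1⟩ := hT.congr e.symm
    obtain ⟨f, hf⟩ := Deg.exists_lift π hπ ho U hU
    exact h1 (hL.comp f hf)
  cases τ
  · obtain ⟨F, _, _, hF, e⟩ := h
    have := charTwo hF
    exact key _ (ExcDeg.big_E6 F) e
  · obtain ⟨F, _, _, hF, e⟩ := h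
    have := charTwo hF
    exact key _ (ExcDeg.big_E7 F) e
  · obtain ⟨F, _, _, hF, e⟩ := h
    have := charTwo hF
    exact key _ (ExcDeg.big_E8 F) e
  · obtain ⟨F, _, _, hF, e⟩ := h
    have := charTwo (n := n * 2) (by rw [hF, pow_mul])
    exact key _ (ExcDeg.big_2E6 (isPP hn) hF) e
  · obtain ⟨F, _, _, hF, ⟨e⟩⟩ := h
    have := charTwo hF
    have hk : (e.toMonoidHom.comp π).ker = π.ker := by
      ext x
      rw [MonoidHom.mem_ker, MonoidHom.mem_ker]
      exact ⟨fun h => e.injective (by rw [map_one]; exact h), fun h => by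
        change e (π x) = 1
        rw [h, map_one]⟩
    refine F4Two.not_hasRep (F := F) (e.toMonoidHom.comp π) (e.surjective.comp hπ) ?_ ?_
    · rw [hk]; exact hc
    · rw [hk]; exact ho

end Cfsg.Agent.H340.ExcId
end

-- part: H340/ExcTab
section
/-!
# Components of type `E₆, E₇, E₈, ²E₆, F₄` over fields of characteristic two in the fixed points of involutory
automorphisms of the known simple groups (helper340)

`S` of type `τ` over the field with `2 ^ n` elements (`ExcId.Is τ n S`), `x` an involutory automorphism of `X`, `A` a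
component of `C_X(x)` with `|Z(A)|` odd and `A / Z(A) ≅ S`.

* `alt`, `odd`, `tits` : `X` is not alternating, not of Lie type in odd characteristic, not the Tits group;
* `exc` : `X` exceptional of characteristic two: `Res τ n X`;
* `cls` : `X` classical of characteristic two: impossible (if the components are classical).
-/

set_option autoImplicit false

universe u v w

namespace Cfsg.Agent.H340.ExcTab

open Subgroup Cfsg Cfsg.Lie Cfsg.Agent.OrdDiv Cfsg.Agent.H902 Cfsg.Agent.H340.ExcId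

/-- The situation. -/
structure Hyp (τ : Ty) (n : ℕ) (X : Type u) [Group X] (x : MulAut X) (A : Subgroup ↥(fixedSubgroup x))
    (S : Type w) [Group S] : Prop where
  one_le : 1 ≤ n
  sq : x * x = 1
  ne : x ≠ 1
  comp : IsComponent A
  odd : Odd (Nat.card (center ↥A))
  iso : Nonempty ((↥A ⧸ center ↥A) ≃* S)
  is : Is τ n S

/-- The expected result. -/
def Res (τ : Ty) (n : ℕ) (X : Type u) [Group X] : Prop :=
  match τ with
  | .E6 => Is .E6 (2 * n) X
  | .E7 => Is .E7 (2 * n) X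
  | .E8 => Is .E8 (2 * n) X
  | .TE6 => Is .E6 (2 * n) X
  | .F4 => Is .F4 (2 * n) X ∨ Is .E6 n X ∨ Is .TE6 n X

variable {τ : Ty} {n : ℕ} {X : Type u} [Group X] {x : MulAut X} {A : Subgroup ↥(fixedSubgroup x)}
  {S : Type w} [Group S]

/-- the order of `A / Z(A)` -/
theorem Hyp.card (h : Hyp τ n X x A S) : Art.Real (sh τ) 2 n (Nat.card (↥A ⧸ center ↥A)) := by
  obtain ⟨e⟩ := h.iso
  rw [Nat.card_congr e.toEquiv]
  exact h.is.real h.one_le

theorem Hyp.big (h : Hyp τ n X x A S) : 2 ^ 24 ≤ Nat.card (↥A ⧸ center ↥A) := pos h.card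

/-- the order of `A / Z(A)` divides the order of `X` -/
theorem card_dvd [Finite X] : Nat.card (↥A ⧸ center ↥A) ∣ Nat.card X :=
  ((card_quotient_dvd_card (center ↥A)).trans (card_subgroup_dvd_card A)).trans
    (card_subgroup_dvd_card (fixedSubgroup x))

/-- `X` is not alternating. -/
theorem alt (h : Hyp τ n X x A S) (hX : IsAlternating X) : False := by
  obtain ⟨m, hm, ⟨e⟩⟩ := hX
  obtain ⟨k, j, hk, -, -, ⟨f⟩, -⟩ := Cfsg.Agent.H284.AltComp.table hm e h.sq h.ne h.comp
  have hs : IsSimpleGroup ↥(alternatingGroup (Fin k)) := by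
    exact alternatingGroup.isSimpleGroup (by rw [Nat.card_eq_fintype_card, Fintype.card_fin]; exact hk)
  have hc : center ↥A = ⊥ := by
    have hA : IsSimpleGroup ↥A := f.isSimpleGroup
    rcases hA.eq_bot_or_eq_top_of_normal (center ↥A) inferInstance with h1 | h1
    · exact h1
    · exfalso
      have h2 := h.big
      rw [h1, ← Subgroup.index_eq_card, Subgroup.index_top] at h2
      norm_num at h2
  have h1 : Nat.card (↥A ⧸ center ↥A) = Nat.card ↥A := by
    rw [hc]
    exact Nat.card_congr (QuotientGroup.quotientBot).toEquiv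
  have h2 : 2 * Nat.card ↥A = k.factorial := (alt_card hk f).symm
  have h3 := h.card
  rw [h1] at h3
  rcases Art.alt_lie h3 hk h2 with h4 | h4 | h4
  all_goals
    have h5 := h.big
    rw [h1, h4] at h5
    norm_num at h5

/-- `X` is not of Lie type in odd characteristic. -/
theorem odd [Finite X] (h : Hyp τ n X x A S) {r : ℕ} (hr : r.Prime) (hr2 : r ≠ 2) (hX : IsLieTypeChar r X) :
    False := by
  have hcase : IsClassicalChar r X ∨ IsExcChar r X := by
    rcases hX with h1 | h1 | h1 | h1 | h1 | h1 | h1 | h1 | h1 | h1 | h1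
    · exact Or.inl (Or.inl h1)
    · exact Or.inl (Or.inr (Or.inl h1))
    · exact Or.inl (Or.inr (Or.inr (Or.inl h1)))
    · exact Or.inl (Or.inr (Or.inr (Or.inr (Or.inl h1))))
    · exact Or.inl (Or.inr (Or.inr (Or.inr (Or.inr (Or.inl h1)))))
    · exact Or.inl (Or.inr (Or.inr (Or.inr (Or.inr (Or.inr h1)))))
    · exact Or.inr (Or.inl h1)
    · exact Or.inr (Or.inr (Or.inl h1))
    · exact absurd h1.1 hr2
    · exact absurd h1.1 hr2
    · exact Or.inr (Or.inr (Or.inr h1))
  rcases hcase with hX | hX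
  · have h1 : IsLieTypeChar r (↥A ⧸ center ↥A) :=
      CF.component (cf_lie_of_classical hr hr2 hX x h.sq) h.comp.1 h.comp.2.2
        h.comp.2.1.commutator_eq_top
    obtain ⟨e⟩ := h.iso
    have h2 : IsLieTypeChar 2 (↥A ⧸ center ↥A) := isLieTypeChar_congr e (h.is.lieTwo h.one_le)
    have h3 := Cfsg.Agent.H284.SepOrd.sep OrdDiv.table hr Nat.prime_two hr2 h1 h2
    have h4 := h.big
    rcases h3 with h3 | h3 | h3 <;> (rw [h3] at h4; norm_num at h4)
  · obtain ⟨e⟩ := h.iso
    have hk : (e.toMonoidHom.comp (QuotientGroup.mk' (center ↥A))).ker = center ↥A := by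
      ext a
      rw [MonoidHom.mem_ker]
      constructor
      · intro h1
        have h2 : e (QuotientGroup.mk' (center ↥A) a) = e 1 := by rw [map_one]; exact h1
        exact (QuotientGroup.eq_one_iff a).1 (e.injective h2)
      · intro h1
        have h2 : QuotientGroup.mk' (center ↥A) a = 1 := (QuotientGroup.eq_one_iff a).2 h1
        change e (QuotientGroup.mk' (center ↥A) a) = 1
        rw [h2, map_one]
    refine h.is.not_hasRep h.one_le (e.toMonoidHom.comp (QuotientGroup.mk' (center ↥A)))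
      (e.surjective.comp (QuotientGroup.mk'_surjective _)) (by rw [hk]) (by rw [hk]; exact h.odd) ?_
    exact (hX.hasRep hr2).comp ((fixedSubgroup x).subtype.comp A.subtype)
      ((fixedSubgroup x).subtype_injective.comp A.subtype_injective)

/-- `X` is not the Tits group. -/
theorem tits [Finite X] (h : Hyp τ n X x A S) (hX : IsoTits X) : False := by
  have h1 : Nat.card X = 17971200 := NotCT.Orders.tits hX
  have h2 : 2 ^ 24 ∣ Nat.card X := (two_pow_dvd h.card).trans card_dvd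
  rw [h1] at h2
  norm_num at h2

theorem chk_spor : ∀ y ∈ spor, y.2 % 2 ^ 24 = 0 → y.1 = .b ∨ y.1 = .m := by decide +kernel

theorem spor_aux [Finite X] (h : Hyp τ n X x A S) (g : Grp) {o : ℕ} (hg : (g, o) ∈ spor) (hX : OrdDiv.Real g X) :
    g = .b ∨ g = .m := by
  have h1 := table_spor X _ hg hX
  have h2 : 2 ^ 24 ∣ Nat.card X := (two_pow_dvd h.card).trans card_dvd
  rw [h1] at h2
  exact chk_spor _ hg (Nat.mod_eq_zero_of_dvd h2)

theorem spor_no [Finite X] (h : Hyp τ n X x A S) (g : Grp) (hg : ∃ o, (g, o) ∈ spor) (hX : OrdDiv.Real g X)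
    (hb : g ≠ .b) (hm : g ≠ .m) : False := by
  obtain ⟨o, ho⟩ := hg
  rcases spor_aux h g ho hX with h1 | h1
  · exact hb h1
  · exact hm h1

theorem mem_spor {g : Grp} (h : g ∈ spor.map Prod.fst) : ∃ o, (g, o) ∈ spor := by
  obtain ⟨y, hy, rfl⟩ := List.mem_map.1 h
  exact ⟨y.2, hy⟩

/-- `X` sporadic: only the Baby Monster and the Monster. -/
theorem spor_red [Finite X] (h : Hyp τ n X x A S) (hX : IsSporadicGroup X) : Spor.IsoB X ∨ Spor.IsoM X := by
  rcases hX with hs | hs | hs | hs | hs | hs | hs | hs | hs | hs | hs | hs | hs | hs | hs | hs | hs | hs | hs | hs | hs |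
    hs | hs | hs | hs | hs
  · exact (spor_no h .m11 (mem_spor (by decide)) hs (by decide) (by decide)).elim
  · exact (spor_no h .m12 (mem_spor (by decide)) hs (by decide) (by decide)).elim
  · exact (spor_no h .m22 (mem_spor (by decide)) hs (by decide) (by decide)).elim
  · exact (spor_no h .m23 (mem_spor (by decide)) hs (by decide) (by decide)).elim
  · exact (spor_no h .m24 (mem_spor (by decide)) hs (by decide) (by decide)).elim
  · exact (spor_no h .j1 (mem_spor (by decide)) hs (by decide) (by decide)).elim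
  · exact (spor_no h .j2 (mem_spor (by decide)) hs (by decide) (by decide)).elim
  · exact (spor_no h .j3 (mem_spor (by decide)) hs (by decide) (by decide)).elim
  · exact (spor_no h .j4 (mem_spor (by decide)) hs (by decide) (by decide)).elim
  · exact (spor_no h .co1 (mem_spor (by decide)) hs (by decide) (by decide)).elim
  · exact (spor_no h .co2 (mem_spor (by decide)) hs (by decide) (by decide)).elim
  · exact (spor_no h .co3 (mem_spor (by decide)) hs (by decide) (by decide)).elim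
  · exact (spor_no h .mcl (mem_spor (by decide)) hs (by decide) (by decide)).elim
  · exact (spor_no h .hs (mem_spor (by decide)) hs (by decide) (by decide)).elim
  · exact (spor_no h .suz (mem_spor (by decide)) hs (by decide) (by decide)).elim
  · exact (spor_no h .he (mem_spor (by decide)) hs (by decide) (by decide)).elim
  · exact (spor_no h .ru (mem_spor (by decide)) hs (by decide) (by decide)).elim
  · exact (spor_no h .on (mem_spor (by decide)) hs (by decide) (by decide)).elim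
  · exact (spor_no h .ly (mem_spor (by decide)) hs (by decide) (by decide)).elim
  · exact (spor_no h .fi22 (mem_spor (by decide)) hs (by decide) (by decide)).elim
  · exact (spor_no h .fi23 (mem_spor (by decide)) hs (by decide) (by decide)).elim
  · exact (spor_no h .fi24 (mem_spor (by decide)) hs (by decide) (by decide)).elim
  · exact (spor_no h .hn (mem_spor (by decide)) hs (by decide) (by decide)).elim
  · exact (spor_no h .th (mem_spor (by decide)) hs (by decide) (by decide)).elim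
  · exact Or.inl hs
  · exact Or.inr hs

/-- in the (Baby) Monster only `²E₆(2)` and `F₄(2)` are possible by the order -/
theorem spor_small [Finite X] (h : Hyp τ n X x A S) (hX : Spor.IsoB X ∨ Spor.IsoM X) :
    n = 1 ∧ (τ = .TE6 ∨ τ = .F4) := by
  have hdvd : Nat.card (↥A ⧸ center ↥A) ∣ Nat.card X := card_dvd
  have hN : Nat.card X ∣ 2 ^ 46 * 808017424794512875886459904961710757005754368000000000 := by
    rcases hX with hX | hX
    · rw [NotCT.Orders.b hX]; norm_num
    · rw [NotCT.Orders.m hX]; norm_num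
  have hval : (Nat.card X).factorization 2 ≤ 46 := by
    rcases hX with hX | hX
    · rw [NotCT.Orders.b hX]
      by_contra hcon
      have h3 : 2 ^ 47 ∣ 4154781481226426191177580544000000 :=
        (Nat.pow_dvd_pow 2 (by omega)).trans (Nat.ordProj_dvd _ 2)
      norm_num at h3
    · rw [NotCT.Orders.m hX]
      by_contra hcon
      have h3 : 2 ^ 47 ∣ 808017424794512875886459904961710757005754368000000000 :=
        (Nat.pow_dvd_pow 2 (by omega)).trans (Nat.ordProj_dvd _ 2)
      norm_num at h3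
  have hr := h.card
  have hP := hr.P_self
  have h5 : 2 ^ (n * Art.NN (sh τ)) ∣ Nat.card X := by
    have h6 : Art.P 2 (Nat.card (↥A ⧸ center ↥A)) ∣ Nat.card X := (Nat.ordProj_dvd _ 2).trans hdvd
    rwa [hP, ← pow_mul] at h6
  have hX0 : Nat.card X ≠ 0 := Nat.card_pos.ne'
  have h6 : n * Art.NN (sh τ) ≤ 46 :=
    ((Nat.prime_two.pow_dvd_iff_le_factorization hX0).1 h5).trans hval
  have hn := h.one_le
  have hn1 : n = 1 := by
    have h7 : 24 ≤ Art.NN (sh τ) := by cases τ <;> decide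
    by_contra hne
    have h8 : 2 * 24 ≤ n * Art.NN (sh τ) := Nat.mul_le_mul (by omega) h7
    omega
  refine ⟨hn1, ?_⟩
  rw [hn1, one_mul] at h6
  cases τ
  · exfalso
    -- 73
    have h8 := hr.eq
    rw [hn1] at h8
    have h9 : Art.dd (sh .E6) (2 ^ 1) = 1 := by decide
    rw [h9, one_mul] at h8
    have h10 : 73 ∣ Nat.card X := by
      refine Dvd.dvd.trans ?_ hdvd
      rw [h8]
      refine Dvd.dvd.mul_left ?_ _
      change 73 ∣ (((2 ^ 1) ^ 2 - 1) * ((2 ^ 1) ^ 5 - 1) * ((2 ^ 1) ^ 6 - 1) * ((2 ^ 1) ^ 8 - 1) * ((2 ^ 1) ^ 9 - 1) *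
        ((2 ^ 1) ^ 12 - 1))
      norm_num
    rcases hX with hX | hX
    · rw [NotCT.Orders.b hX] at h10
      norm_num at h10
    · rw [NotCT.Orders.m hX] at h10
      norm_num at h10
  · exact absurd h6 (by decide)
  · exact absurd h6 (by decide)
  · exact Or.inl rfl
  · exact Or.inr rfl

/-! ### characteristic two -/

/-- if `A` is simple, then `A ≅ S` -/
theorem Hyp.isA (h : Hyp τ n X x A S) (hs : IsSimpleGroup ↥A) : Is τ n ↥A := by
  have hc : center ↥A = ⊥ := by
    rcases hs.eq_bot_or_eq_top_of_normal (center ↥A) inferInstance with h1 | h1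
    · exact h1
    · exfalso
      have h2 := h.big
      rw [h1, ← Subgroup.index_eq_card, Subgroup.index_top] at h2
      norm_num at h2
  obtain ⟨e⟩ := h.iso
  have f : ↥A ≃* (↥A ⧸ center ↥A) :=
    (QuotientGroup.quotientBot (G := ↥A)).symm.trans (QuotientGroup.quotientMulEquivOfEq hc.symm)
  exact h.is.congr (f.trans e).symm

theorem act_two [Finite X] [IsSimpleGroup X] (hna : ¬ IsMulCommutative X) (hX : IsLieTypeChar 2 X) :
    Cfsg.Agent.H284.CharTwoComp.ACT X := fun _ hu =>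
  Cfsg.Agent.EvenType.CharTwoCent.char2_centralizer (Cfsg.Agent.EvenType.ChevTwo.charTwo hna (Or.inl hX)) hu

theorem Hyp.isA' [Finite X] [IsSimpleGroup X] (hna : ¬ IsMulCommutative X) (hX : IsLieTypeChar 2 X)
    (h : Hyp τ n X x A S) : Is τ n ↥A :=
  h.isA (Cfsg.Agent.H284.CharTwoComp.of_fix (act_two hna hX) h.sq h.comp).1

theorem pow_of_card {F : Type} [Field F] [Fintype F] [CharP F 2] : ∃ f : ℕ, 1 ≤ f ∧ Fintype.card F = 2 ^ f :=
  Cfsg.Agent.H284.SepOrd.field_pow Nat.prime_two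

/-- **`X` exceptional of characteristic two.** -/
theorem exc [Finite X] [IsSimpleGroup X] (hna : ¬ IsMulCommutative X) (h : Hyp τ n X x A S)
    (hX : IsExceptionalChevChar 2 X ∨ IsTwistedE6D4Char 2 X ∨ IsoSuzuki X ∨ Iso2F4 X) : Res τ n X := by
  have hlie : IsLieTypeChar 2 X := by
    unfold IsLieTypeChar
    tauto
  have hA := h.isA' hna hlie
  have hr := hA.real h.one_le
  have hn := h.one_le
  have hsq : x ^ 2 = 1 := by rw [pow_two]; exact h.sq
  have T : OrderTable.{0} := OrdDiv.table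
  rcases Cfsg.Agent.H78.TeFour.exc_comp hna hX x hsq h.ne A h.comp with hp | hp | hp | hp | hp
  · obtain ⟨F, F₀, _, _, _, _, _, _, hc, hp⟩ := hp
    obtain ⟨f, hf, hF⟩ := pow_of_card (F := F₀)
    have hF2 : Fintype.card F = 2 ^ (2 * f) := by rw [hc, hF, ← pow_mul, mul_comm]
    have key : ∀ τ', Is τ' f ↥A → Is τ' (2 * f) X → (τ' = .E6 ∨ τ' = .E7 ∨ τ' = .E8 ∨ τ' = .F4) → Res τ n X := by
      intro τ' h1 h2 h3
      obtain ⟨h4, h5⟩ := hA.inj hn hf h1 (MulEquiv.refl _)
      subst h4 h5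
      rcases h3 with rfl | rfl | rfl | rfl
      · exact h2
      · exact h2
      · exact h2
      · exact Or.inl h2
    rcases hp with ⟨h3, -, ⟨e⟩⟩ | ⟨-, -, L, _, _, hL, ⟨e⟩⟩ | ⟨⟨a⟩, ⟨b⟩⟩ | ⟨⟨a⟩, ⟨b⟩⟩ | ⟨⟨a⟩, ⟨b⟩⟩ | ⟨⟨a⟩, ⟨b⟩⟩
    · exfalso
      rw [hF] at h3
      have h4 : Art.Real .G2 2 f (Nat.card ↥A) := by
        refine ⟨Nat.prime_two, hf, h3, ?_⟩
        rw [Nat.card_congr e.toEquiv, T.g2 F₀, hF]
        change 1 * _ = (2 ^ f) ^ 6 * (_ * _)
        ring
      have h5 := (real_inj hr h4).1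
      cases τ <;> exact absurd h5 (by decide)
    · exfalso
      have h4 : Art.Real (.U 3) 3 1 (Nat.card (PSU 3 L (3 ^ 1))) :=
        Names.psu_real Nat.prime_three le_rfl (by rw [hL]; norm_num) le_rfl (by norm_num)
      have h5 : IsLieTypeChar 3 ↥A := by
        have hL3 : CharP L 3 := by
          obtain ⟨p, hp⟩ := CharP.exists L
          obtain ⟨m, hpp, hcard⟩ := FiniteField.card L p
          have h1 : p ∣ 3 ^ 2 := by
            rw [show 3 ^ 2 = 9 by norm_num, ← hL, hcard]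
            exact dvd_pow_self p m.ne_zero
          rwa [(Nat.prime_dvd_prime_iff_eq hpp Nat.prime_three).1 (hpp.dvd_of_dvd_pow h1)] at hp
        exact Or.inr (Or.inr (Or.inl ⟨L, inferInstance, inferInstance, hL3, 3, 3, by rw [hL]; norm_num, le_rfl,
          by norm_num, ⟨e⟩⟩))
      have h6 := Cfsg.Agent.H284.SepOrd.sep OrdDiv.table Nat.prime_three Nat.prime_two (by norm_num) h5
        (hA.lieTwo hn)
      have h7 := pos hr
      rcases h6 with h6 | h6 | h6 <;> (rw [h6] at h7; norm_num at h7)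
    · exact key .F4 ⟨F₀, inferInstance, inferInstance, hF, ⟨b⟩⟩ ⟨F, inferInstance, inferInstance, hF2, ⟨a⟩⟩ (by simp)
    · exact key .E6 ⟨F₀, inferInstance, inferInstance, hF, ⟨b⟩⟩ ⟨F, inferInstance, inferInstance, hF2, ⟨a⟩⟩ (by simp)
    · exact key .E7 ⟨F₀, inferInstance, inferInstance, hF, ⟨b⟩⟩ ⟨F, inferInstance, inferInstance, hF2, ⟨a⟩⟩ (by simp)
    · exact key .E8 ⟨F₀, inferInstance, inferInstance, hF, ⟨b⟩⟩ ⟨F, inferInstance, inferInstance, hF2, ⟨a⟩⟩ (by simp)
  · exfalso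
    obtain ⟨F, F₀, _, _, _, _, _, _, q, q₀, hq, -, -, hF₀, -, ⟨e⟩⟩ := hp
    obtain ⟨f, hf, rfl⟩ := Cfsg.Agent.H284.SepOrd.root_pow Nat.prime_two (by norm_num)
      (Cfsg.Agent.H284.SepOrd.field_pow (F := F₀) Nat.prime_two) hF₀
    have h4 : Art.Real .TD4 2 f (Nat.card ↥A) := by
      refine ⟨Nat.prime_two, hf, trivial, ?_⟩
      rw [Nat.card_congr e.toEquiv]
      change 1 * _ = (2 ^ f) ^ 12 * (_ * _ * _)
      rw [T.td4 F₀ _ hq hF₀]
      ring
    have h5 := (real_inj hr h4).1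
    cases τ <;> exact absurd h5 (by decide)
  · exfalso
    obtain ⟨F, _, _, _, m, hF, -, ⟨hm, ⟨e⟩⟩ | ⟨-, h3⟩⟩ := hp
    · have h4 : Art.Real .TF4 2 (2 * m + 1) (Nat.card ↥A) := by
        refine ⟨Nat.prime_two, by omega, ⟨rfl, odd_two_mul_add_one m, by omega⟩, ?_⟩
        rw [Nat.card_congr e.toEquiv, T.tf4 F m hm hF]
        change 1 * _ = (2 ^ (2 * m + 1)) ^ 12 * (_ * _ * _ * _)
        ring
      have h5 := (real_inj hr h4).1
      cases τ <;> exact absurd h5 (by decide)
    · have h1 : Nat.card ↥A = 17971200 := NotCT.Orders.tits h3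
      have h2 := two_pow_dvd hr
      rw [h1] at h2
      norm_num at h2
  · obtain ⟨F, _, _, _, ⟨a⟩, ⟨q₀, hF, ⟨e⟩⟩ | ⟨e⟩⟩ := hp
    · obtain ⟨f, hf, rfl⟩ := Cfsg.Agent.H284.SepOrd.root_pow Nat.prime_two (by norm_num)
        (Cfsg.Agent.H284.SepOrd.field_pow (F := F) Nat.prime_two) hF
      have h1 : Is .TE6 f ↥A := ⟨F, inferInstance, inferInstance, hF, ⟨e⟩⟩
      obtain ⟨h4, h5⟩ := hA.inj hn hf h1 (MulEquiv.refl _)
      subst h4 h5
      exact ⟨F, inferInstance, inferInstance, by rw [hF, ← pow_mul, mul_comm], ⟨a⟩⟩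
    · obtain ⟨f, hf, hF⟩ := pow_of_card (F := F)
      have h1 : Is .F4 f ↥A := ⟨F, inferInstance, inferInstance, hF, e⟩
      obtain ⟨h4, h5⟩ := hA.inj hn hf h1 (MulEquiv.refl _)
      subst h4 h5
      exact Or.inr (Or.inl ⟨F, inferInstance, inferInstance, hF, ⟨a⟩⟩)
  · obtain ⟨F, F₀, _, _, _, _, _, _, q, hF, hF₀, ⟨a⟩, ⟨e⟩⟩ := hp
    obtain ⟨f, hf, hF'⟩ := pow_of_card (F := F₀)
    have hq : q = 2 ^ f := by rw [← hF₀, hF']
    subst hq
    have h1 : Is .F4 f ↥A := ⟨F₀, inferInstance, inferInstance, hF', ⟨e⟩⟩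
    obtain ⟨h4, h5⟩ := hA.inj hn hf h1 (MulEquiv.refl _)
    subst h4 h5
    exact Or.inr (Or.inr ⟨F, inferInstance, inferInstance, hF, ⟨a⟩⟩)

end Cfsg.Agent.H340.ExcTab
end
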